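import Cfsg.Agent.Ua.Za
import Cfsg.Agent.Ua.Pa
import Cfsg.Agent.Ua.Vb
import Cfsg.Agent.Ua.Xb
import Cfsg.Agent.StA.R
import Cfsg.Agent.CmpT.T9

/-! S3118: end games -/

set_option autoImplicit false
set_option linter.unusedSectionVars false

namespace CF.Ua

open Subgroup Cfsg CF.BG CF.Sig CF.Ab2 CF.Recog Equiv Equiv.Perm
open CF.GW hiding DT DC
open CF.Sol2A (ι PP Dn TB WF IC)
open CF.StA (dt D4 DT VV)
open CF.AF (sc th Sb Se)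
open CF.Kondo (Emb im)
open scoped commutatorElement

local notation "Alt" => alternatingGroup

universe u
variable {X E : Type u} [Group X] [Finite X] [Group E] [Finite E] {n m k N : ℕ}
  {a b c d e g l r s t v x y z : X} {A G H I J K L M P Q U W W' Y : Subgroup X} {β : X → X → ℂˣ}
  {ρ μ α η : X → Perm (Fin n)} {ν : X → Perm (Fin m)} {j : Fin m ↪ Fin n} {σ τ γ : Perm (Fin n)} {π : E →* X}
  {p q p' q' : Fin n} {D : Set X} {Kf : X → Subgroup X} {ρf : X → X → Perm (Fin n)}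

namespace Z

theorem std (hO : oddCore X = ⊥) (hA : IsStandardSubgroup A) (n6 : 6 ≤ n) (hAX : Nonempty (A ≃* Alt (Fin n)))
    (hR : ¬ PRankLE 2 1 (𝐂 A)) : A.Normal ∨ Nonempty (normalClosure (A : Set X) ≃* Alt (Fin (n + 4))) := by
  obtain ⟨ε⟩ := hAX
  obtain ⟨F, e, rfl⟩ := StA.fr_of_equiv ε
  have n5 : 5 ≤ Fintype.card (Fin n) := by rw [Fintype.card_fin]; omega
  refine (StA.top hO hA (e.ns n5) hR).imp_right fun ⟨K, nK, nor, l, q, g, t, hg, i, ht, m⟩ => ?_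
  refine (StA.red e n5 (StA.st_of hA hR) nK nor l hg i ht m).elim (by rw [Fintype.card_fin]; exact id)
    fun ⟨_, _, _, _, _, _, _, _, D⟩ => ?_
  have := D.n5
  rw [Fintype.card_fin] at this
  omega

theorem cz (o : 𝒪 K = ⊥) : Cz K = 𝐂 K :=
  le_antisymm (commutator_eq_bot_iff_le_centralizer.1 (le_bot_iff.1 (o ▸ comm_Cz le_rfl))) (cent_Cz le_rfl)

theorem cq (v : Vw n K ρ) (z : r ∈ Cz K) (sN : s ∈ 𝐍 K) (c : Commute σ (ρ s)) :
    ∀ x ∈ zpowers r ⊔ zpowers s, Commute σ (ρ x) := fun _ hx =>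
  ((sup_le (zpowers_le.2 ⟨Cz_norm K z, by rw [v.cz z]; exact .one_right _⟩) (zpowers_le.2 ⟨sN, c⟩) : _ ≤
    ({ carrier := {x | x ∈ 𝐍 K ∧ Commute σ (ρ x)}
       mul_mem' := fun p q => ⟨mul_mem p.1 q.1, by rw [v.mul p.1 q.1]; exact p.2.mul_right q.2⟩
       one_mem' := ⟨one_mem _, by rw [v.one]; exact .one_right _⟩
       inv_mem' := fun p => ⟨inv_mem p.1, by rw [v.inv p.1]; exact p.2.inv_right⟩ } : Subgroup X)) hx).2

end Z

theorem fin [IsSimpleGroup X] (v : Vw n K ρ) (n6 : 6 ≤ n) (o : 𝒪 K = ⊥) (h : ∀ r, Iv r → r ∈ 𝐂 K → PC K (𝐂₁ r))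
    (f : FP a b) (ha : a ∈ 𝐂 K) (hb : b ∈ 𝐂 K) : Nonempty (X ≃* Alt (Fin (n + 4))) := by
  have k : ∀ y, orderOf y = 2 → y ∈ 𝐂 K → Comp K (𝐂₁ y) := fun y i hy => (h y i hy).comp p2 (o ▸ bot_le)
  obtain ⟨x, hx, y, hy, -, -, g, -⟩ := v.four (Q := ⊥) (piGrp_bot _) bot_le
    (p := ⟨0, by omega⟩) (q := ⟨1, by omega⟩) (p' := ⟨2, by omega⟩) (q' := ⟨3, by omega⟩) (by constructor <;> simp)
    fun x hx => by rw [mem_bot.1 hx, v.one]; exact ⟨.one_right _, .one_right _⟩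
  have st := CT.std_of f.l ha k fun c l => (CmpT.TH.false (A := K) ⟨v.pc.comp p2 (o ▸ bot_le),
    fun i hy => k _ i.orderOf hy, ⟨x, hx, y, hy, ⟨g.l.ne_one, g.l.sq⟩, ⟨g.r.ne_one, g.r.sq⟩, g.ne, g.comm⟩, c, l⟩).elim
  have nt : ∀ {N : Subgroup X} {u : X}, N.Normal → Iv u → u ∈ N → N = ⊤ := fun n i m =>
    n.eq_bot_or_eq_top.resolve_left fun e => i.ne_one (e.le m)
  obtain e | ⟨⟨e⟩⟩ := Z.std ((inferInstance : (oddCore X).Normal).eq_bot_or_eq_top.resolve_right fun e =>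
    Sol2A.iv_notO (K := ⊤) f.l (oddCore_eq (G := X) ▸ e.ge trivial)) st n6 (v.iso o) fun r => by
      have := f.abel.comm
      have := r ((V4 a b).subgroupOf _) inferInstance fun x m => Subtype.ext ((sq x.1).trans (f.sq m))
      rw [card_subgroupOf' (V4_le.2 ⟨ha, hb⟩), f.card] at this
      omega
  · exact (v.pc.not_sol (Abel.sol ((nt (normal_centralizer (H := K)) f.l ha).ge.trans' le_top))).elim
  · rw [nt normalClosure_normal g.l (subset_normalClosure hx)] at e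
    exact ⟨topEquiv.symm.trans e⟩

theorem Ca.fin [IsSimpleGroup X] (h : Ca β n) (k : MP β n t K ρ) (o : 𝒪 K = ⊥) (i : Iv r) (z : r ∈ Zt t K)
    (ne : r ≠ t) (mx : ∀ s L μ, MP β n s L μ → K ≤ L → L = K) : Nonempty (X ≃* Alt (Fin (n + 4))) := by
  have cz := Z.cz o
  have st : ∀ {s u μ}, MP β n s K μ → Iv u → u ∈ 𝐂 K → u ∈ 𝐂₁ s → ∃ μ, MP β n u K μ := fun {s u μ} m j a b => by
    obtain ⟨L, η, c, l, -⟩ := h.link m j ⟨b, cz ▸ a⟩
    rw [Dn, inf_eq_left.2 (le_cent1_iff.2 a), m.pc.PLay_self p2] at l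
    exact ⟨η, mx _ _ _ c l ▸ c⟩
  have tK : t ∈ 𝐂 K := cz ▸ k.tz.2
  obtain ⟨P, sP, tP⟩ := exists_syl_le (zpowers_le.2 tK) k.iv.piGrp
  obtain ⟨w, ⟨w1, w2⟩, iw⟩ := exists_iv_of_two (sP.pi.le inf_le_left)
    (sP.pi.center_ne_bot fun e => k.iv.ne_one (e.le (tP (mem_zpowers t))))
  obtain ⟨μ, m⟩ := st k iw (sP.le w1) (mem_cent1.2 (w2 t (tP (mem_zpowers t))).symm)
  refine Ua.fin k.vw (by have := h.n9; omega) o (fun u j a => ?_) (FP.mk' k.iv i z.1 ne) tK (cz ▸ z.2)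
  obtain ⟨c, hc, l⟩ := sP.syl_cj_le (zpowers_le.2 a) j.piGrp
  have l := l (conj_mem_cj.2 (mem_zpowers u))
  obtain ⟨η, e⟩ := st m (j.conj c) (sP.le l) (mem_cent1.2 (w2 _ l))
  have := (e.cj h.bt (mem_top c⁻¹)).pc
  rwa [cj_of_norm (inv_mem (cent_le_norm K hc)), show c⁻¹ * (c * u * c⁻¹) * c⁻¹⁻¹ = u by group] at this

/-- the inverting configuration -/
theorem Pr.inv (h : Pr G β n t K ρ) (i : Iv s) (c : s ∈ 𝐂₁ t) (sN : s ∈ 𝐍 K) (s1 : ρ s ≠ 1) (z : r ∈ Zt t K)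
    (p2 : P2 (zpowers r ⊔ zpowers s)) (e : r * s * r⁻¹ = s * t) :
    (∃ d ∈ K, Iv d ∧ d ∈ 𝐂₁ s ∧ (∃ g ∈ 𝐂₁ t, g * s * g⁻¹ = s * d) ∧ ∃ g ∈ 𝐂₁ t, g * s * g⁻¹ = s * d * t) ∧
      (sign (ρ s) = -1 ∨ ∃ y ∈ Zt t K, y ∈ 𝐂₁ s ∧ Iv y ∧ y ≠ t) := by
  have v := h.vw
  have nQ : zpowers r ⊔ zpowers s ≤ 𝐍 K := sup_le (zpowers_le.2 (Cz_norm K z.2)) (zpowers_le.2 sN)
  have ss := v.sq sN i.sq
  have cr : ∀ {d}, d ∈ 𝐂 (zpowers r ⊔ zpowers s) → Commute r d ∧ Commute s d := fun m =>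
    ⟨m r (mem_sup_left (mem_zpowers r)), m s (mem_sup_right (mem_zpowers s))⟩
  constructor
  · obtain ⟨δ, h1, h2, h3⟩ := dd (by have := v.n5; omega) ss s1
    obtain ⟨d, hd, m, dd, q⟩ := v.lift2 p2 nQ h1.alt (Z.cq v z.2 sN h2) h1.1
    obtain ⟨c1, c2⟩ := cr m
    obtain ⟨g, hg, a⟩ := v.conjK sN i.sq (b := s * d) (by rw [c2.symm.mul_mul_mul_comm, i.sq, dd, one_mul])
      (by rwa [← mul_assoc, i.sq, one_mul]) (by rw [v.mul sN (v.nK hd), q, h3])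
    refine ⟨d, hd, .mk' (fun o => ?_) dd, mem_cent1.2 c2.symm, ⟨g, h.pc.le hg, a⟩, r * g, mul_mem z.1 (h.pc.le hg), ?_⟩
    · have := h1.2
      rw [← q, o, v.one] at this
      simp at this
    · rw [mul_assoc s, mem_cent1.1 (h.pc.le hd), ← mul_assoc, ← e, mul_assoc _ r⁻¹, c1.inv_left.eq, ← mul_assoc,
        mul_assoc r s, ← a]
      group
  refine (Int.units_eq_one_or _).symm.imp_right fun o => ?_
  obtain ⟨l, hl, m, ll, q⟩ := v.lift2 p2 nQ o (Z.cq v z.2 sN (.refl _)) ss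
  obtain ⟨c1, c2⟩ := cr m
  have k : ∀ {y}, Commute r y → l * s ≠ y := fun a b => h.iv.ne_one (by
    have : Commute r s := by simpa [← b, ← mul_assoc, ll] using c1.mul_right a
    rwa [this.eq, mul_inv_cancel_right, left_eq_mul] at e)
  exact ⟨l * s, ⟨mul_mem (h.pc.le hl) c, (v.ker (mul_mem (v.nK hl) sN)).1 (by rw [v.mul (v.nK hl) sN, q, ss])⟩,
    mul_mem (mem_cent1.2 c2.symm) (self_mem_cent1 s), .mk' (k (.one_right r))
      (by rw [c2.mul_mul_mul_comm, i.sq, ll, one_mul]), k (mem_cent1.1 z.1)⟩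

end CF.Ua
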