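import Cfsg.Agent.Ua.P
import Cfsg.Agent.Ua.Va

/-! The standard configuration: permutation lemmas and lifts. -/

set_option autoImplicit false
set_option linter.unusedSectionVars false

namespace CF.Ua

open Subgroup Cfsg CF.BG CF.Sig CF.Ab2 CF.Recog Equiv Equiv.Perm
open CF.GW hiding DT DC
open CF.Sol2A (ι PP Dn TB WF IC cc cs pc_sw)
open CF.StA (dt D4 DT VV)
open CF.AF (sc th Sb Se)
open scoped commutatorElement

local notation "Alt" => alternatingGroup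

universe u
variable {X : Type u} [Group X] [Finite X] {n m : ℕ}
  {a b c d e g l r s t v w x y z : X} {A G H I J K L M P Q R U W Y : Subgroup X} {β : X → X → ℂˣ}
  {ρ μ α η : X → Perm (Fin n)} {ν : X → Perm (Fin m)} {j : Fin m ↪ Fin n} {σ τ γ δ : Perm (Fin n)}
  {p q p' q' : Fin n} {D : Set X} {Kf : X → Subgroup X} {ρf : X → X → Perm (Fin n)}

namespace Sa

theorem two_fix (n6 : 6 ≤ n) (p q p' q' : Fin n) : ∃ a b : Fin n, a ≠ b ∧ (a ≠ p ∧ a ≠ q ∧ a ≠ p' ∧ a ≠ q') ∧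
    b ≠ p ∧ b ≠ q ∧ b ≠ p' ∧ b ≠ q' := by
  obtain ⟨a, ha⟩ := StA.picku [p, q, p', q'] (by simp; omega)
  obtain ⟨b, hb⟩ := StA.picku [a, p, q, p', q'] (by simp; omega)
  simp only [List.mem_cons, List.not_mem_nil, or_false, not_or] at ha hb
  exact ⟨a, b, Ne.symm hb.1, ha, hb.2⟩

theorem sc_swap (h : p ≠ q) : sc (swap p q) = 2 := card_support_swap h

/-- the dihedral group of order 8 modulo the four-group -/
theorem d8' (h : D4 p q p' q') (c : Commute γ (dt p q p' q')) (f : ∀ x, dt p q p' q' x = x → γ x = x) :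
    γ ∈ VV p q p' q' ∨ sign γ = -1 ∧ ∃ δ, (δ = γ ∨ δ = γ * dt p p' q q') ∧ δ * δ = 1 ∧ sc δ = 2 := by
  have k : ∀ {a b : Fin n}, a ≠ b → γ * dt p p' q q' = swap a b → sign γ = -1 := fun l e => by
    simpa [l, h.ac, h.bd] using congrArg sign e
  rcases d8 h c f with e | e | e | e | e
  · exact .inl e
  · exact .inr ⟨by simp [e, h.ab], _, .inl rfl, by simp [e], e ▸ sc_swap h.ab⟩
  · exact .inr ⟨by simp [e, h.cd], _, .inl rfl, by simp [e], e ▸ sc_swap h.cd⟩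
  · exact .inr ⟨k h.ab e, _, .inr rfl, by simp [e], e ▸ sc_swap h.ab⟩
  · exact .inr ⟨k h.cd e, _, .inr rfl, by simp [e], e ▸ sc_swap h.cd⟩

/-- noncentral involutions of the dihedral group of order 8 -/
theorem cls8 (t : DT τ) (c : Commute γ τ) (f : ∀ x, τ x = x → γ x = x) (e : γ * γ = 1) (n1 : γ ≠ 1) (n2 : γ ≠ τ) :
    ∃ p q p' q', D4 p q p' q' ∧ τ = dt p q p' q' ∧ (γ = dt p p' q q' ∨ γ = swap p q) := by
  obtain ⟨p, q, p', q', h, rfl⟩ := t.ex'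
  have k : ∀ {a b : Fin n}, γ * dt p p' q q' = swap a b → swap a b * dt p p' q q' = γ := fun e => by
    rw [← e, mul_assoc, h.s2.sq, mul_one]
  rcases d8 h c f with l | l | l | l | l
  · rcases h.mem_VV.1 l with l | l | l | l
    exacts [absurd l n1, absurd l n2, ⟨_, _, _, _, h, rfl, .inl l⟩,
      ⟨_, _, _, _, h.fr, by rw [dt, swap_comm p'], .inl l⟩]
  · exact ⟨_, _, _, _, h, rfl, .inr l⟩
  · exact ⟨_, _, _, _, h.sw, h.symm'.symm, .inr l⟩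
  all_goals
    have := Equiv.congr_fun e p
    obtain ⟨_, _, _, _, _, _⟩ := h
    rw [← k l] at this
    simp only [dt, mul_apply, swap_apply_def, one_apply] at this
    grind

theorem pa (n6 : 6 ≤ n) (h : D4 p q p' q') (e : γ = dt p p' q q' ∨ γ = swap p q) :
    ∃ c, sign c = 1 ∧ Commute c (dt p q p' q') ∧ ⁅γ, c⁆ = dt p q p' q' := by
  obtain ⟨a, b, ab, ha, hb⟩ := two_fix n6 p q p' q'
  rcases e with rfl | rfl
  · refine ⟨dt p q a b, by simp [ab, h.ab], ?_, ?_⟩ <;> obtain ⟨_, _, _, _, _, _⟩ := h <;> ext x <;>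
      simp only [commutatorElement_def, dt, mul_apply, swap_apply_def, _root_.mul_inv_rev, swap_inv] <;> grind
  · refine ⟨dt p p' q q', h.s2.alt, h.comm.symm, ?_⟩
    obtain ⟨_, _, _, _, _, _⟩ := h
    ext x
    simp only [commutatorElement_def, dt, mul_apply, swap_apply_def, _root_.mul_inv_rev, swap_inv]; grind

theorem p3 (h : D4 p q p' q') : ∃ σ, sign σ = 1 ∧ σ * dt p q p' q' * σ⁻¹ = dt p p' q q' ∧
    σ * dt p p' q q' * σ⁻¹ = dt p q p' q' * dt p p' q q' := by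
  refine ⟨swap q q' * swap q p', by simp [h.bd, h.bc], ?_, ?_⟩ <;> obtain ⟨_, _, _, _, _, _⟩ := h <;> ext x <;>
    simp only [dt, mul_apply, swap_apply_def, _root_.mul_inv_rev, swap_inv] <;> grind

theorem pq (n6 : 6 ≤ n) (h : D4 p q p' q') : ∃ σ, DT σ ∧ σ * dt p q p' q' * σ⁻¹ = dt p q p' q' ∧
    σ * dt p p' q q' * σ⁻¹ = dt p q p' q' * dt p p' q q' ∧ ∀ x, dt p q p' q' x ≠ x → σ x = swap p q x := by
  obtain ⟨a, b, ab, ha, hb⟩ := two_fix n6 p q p' q'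
  refine ⟨dt p q a b, D4.dT ⟨h.ab, ha.1.symm, hb.1.symm, ha.2.1.symm, hb.2.1.symm, ab⟩, ?_, ?_, fun x => ?_⟩ <;>
    obtain ⟨_, _, _, _, _, _⟩ := h
  pick_goal 3
  · simp only [dt, mul_apply, swap_apply_def]; grind
  all_goals ext x; simp only [dt, mul_apply, swap_apply_def, _root_.mul_inv_rev, swap_inv]; grind

theorem sgn_res {ν : Perm (Fin m)} (hj : ∀ p, (∃ i, j i = p) ↔ τ p = p) (e : ∀ i, γ (j i) = j (ν i))
    (f : ∀ x, τ x = x → δ x = x) (k : ∀ x, τ x ≠ x → γ x = δ x) : sign γ = sign δ * sign ν := by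
  have : ι j ν = δ⁻¹ * γ := Sol2A.ι_ext j (fun i => by
    rw [mul_apply, e, inv_eq_iff_eq, f _ ((hj _).1 ⟨_, rfl⟩)]) fun x hx => by
    rw [mul_apply, k x fun l => let ⟨i, hi⟩ := (hj x).2 l; hx i hi, Sol2A.ia]
  rw [← Sol2A.ι_sign j, this, ← map_mul, mul_inv_cancel_left]

theorem sc_blk (e : δ * δ = 1) (h : D4 p (δ p) p' (δ p')) : sc (δ * dt p p' (δ p) (δ p')) = sc δ := by
  have := StA.ap2 e p; have := StA.ap2 e p'
  refine congrArg Finset.card (Finset.ext fun x => ?_)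
  have := StA.ap2 e x
  obtain ⟨_, _, _, _, _, _⟩ := h
  simp only [mem_support, dt, mul_apply, swap_apply_def]; grind

theorem sc_le (f : ∀ x, τ x = x → γ x = x) : sc γ ≤ sc τ :=
  Finset.card_le_card fun x hx => mem_support.2 fun l => mem_support.1 hx (f x l)

theorem sc_two (e : γ * γ = 1) (n1 : γ ≠ 1) (c : sc τ + 3 = n) (f : ∀ x, τ x ≠ x → γ x = x) : sc γ = 2 := by
  have : sc γ ≤ τ.supportᶜ.card := Finset.card_le_card fun x hx => by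
    simpa using by_contra fun l => mem_support.1 hx (f x l)
  rw [Finset.card_compl, Fintype.card_fin] at this
  obtain ⟨i, -, hi⟩ := AF.ct_sq e
  have := mt AF.sc_zero.1 n1
  unfold sc at *; omega

theorem off (c : sc τ + 4 ≤ n) : ∃ p q p' q', D4 p q p' q' ∧ τ p = p ∧ τ q = q ∧ τ p' = p' ∧ τ q' = q' := by
  obtain ⟨a, ha, b, hb, c, hc, d, hd, h⟩ := StA.ex4 (S := τ.supportᶜ) (by
    rw [Finset.card_compl, Fintype.card_fin]; unfold sc at c; omega)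
  simp only [Finset.mem_compl, notMem_support] at ha hb hc hd
  exact ⟨a, b, c, d, h, ha, hb, hc, hd⟩

theorem off' (c : sc τ + 4 ≤ n) : ∃ δ, DT δ ∧ (∀ x, τ x ≠ x → δ x = x) ∧
    ∀ γ : Perm (Fin n), (∀ x, τ x = x → γ x = x) → Commute δ γ := by
  obtain ⟨a, b, c, d, h, k⟩ := off c
  have : ∀ x, τ x ≠ x → dt a b c d x = x := fun x hx => StA.dt_fix (by grind) (by grind) (by grind) (by grind)
  exact ⟨_, h.dT, this, fun γ f => Disjoint.commute fun x => (em (τ x = x)).symm.imp (this x) (f x)⟩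

theorem sc_ev (e : τ * τ = 1) : sc τ % 2 = 0 := by
  obtain ⟨i, -, hi⟩ := AF.ct_sq e
  omega

/-! ### lifts commuting with given elements -/

/-- `a` is a 2-element whose view commutes with `σ` -/
structure Ok (K : Subgroup X) (ρ : X → Perm (Fin n)) (σ : Perm (Fin n)) (a : X) : Prop where
  e : E2 a
  n : a ∈ 𝐍 K
  c : Commute σ (ρ a)

theorem Ok.cz (h : Vw n K ρ) (e : E2 a) (z : a ∈ Cz K) : Ok K ρ σ a := ⟨e, Cz_norm K z, by simp [h.cz z]⟩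

theorem e2 (e : a * a = 1) : E2 a := piElt_of_pow_eq_one Nat.prime_two (by rwa [pow_two])

theorem p2s (p : P2 Q) (e : E2 x) (c : Q ≤ 𝐂₁ x) : P2 (Q ⊔ zpowers x) :=
  p.sup e.zpowers (.inl (c.trans (cent1_le_norm_zp x)))

theorem p2v (ea : E2 a) (eb : E2 b) (c : a ∈ 𝐂₁ b) : P2 (V4 a b) := p2s ea.zpowers eb (zpowers_le.2 c)

/-- the elements whose view commutes with `σ` -/
def cs' (h : Vw n K ρ) (σ : Perm (Fin n)) : Subgroup X where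
  carrier := {x | x ∈ 𝐍 K ∧ Commute σ (ρ x)}
  mul_mem' ha hb := ⟨mul_mem ha.1 hb.1, h.mul ha.1 hb.1 ▸ ha.2.mul_right hb.2⟩
  one_mem' := ⟨one_mem _, by simp [h.one]⟩
  inv_mem' ha := ⟨inv_mem ha.1, h.inv ha.1 ▸ ha.2.inv_right⟩

theorem l3 (h : Vw n K ρ) (ha : Ok K ρ σ a) (hb : Ok K ρ σ b) (hc : Ok K ρ σ c) (ab : a ∈ 𝐂₁ b) (ac : a ∈ 𝐂₁ c)
    (bc : b ∈ 𝐂₁ c) : ∃ Q, P2 Q ∧ Q ≤ 𝐍 K ∧ (∀ x ∈ Q, Commute σ (ρ x)) ∧ 𝐂 Q ≤ 𝐂₁ a ⊓ 𝐂₁ b ⊓ 𝐂₁ c := by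
  have l : V4 a b ⊔ zpowers c ≤ cs' h σ := sup_le (V4_le.2 ⟨⟨ha.n, ha.c⟩, hb.n, hb.c⟩) (zpowers_le.2 ⟨hc.n, hc.c⟩)
  exact ⟨_, p2s (p2v ha.e hb.e ab) hc.e (V4_le.2 ⟨ac, bc⟩), fun x hx => (l hx).1, fun x hx => (l hx).2,
    by rw [cent_sup, cent_V4, cent_zpowers]⟩

theorem lift3 (h : Vw n K ρ) (s : sign σ = 1) (e : σ * σ = 1) (ha : Ok K ρ σ a) (hb : Ok K ρ σ b) (hc : Ok K ρ σ c)
    (ab : a ∈ 𝐂₁ b) (ac : a ∈ 𝐂₁ c) (bc : b ∈ 𝐂₁ c) :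
    ∃ l ∈ K, l ∈ 𝐂₁ a ∧ l ∈ 𝐂₁ b ∧ l ∈ 𝐂₁ c ∧ l * l = 1 ∧ ρ l = σ := by
  obtain ⟨Q, p, n, c, k⟩ := l3 h ha hb hc ab ac bc
  obtain ⟨l, hl, l1, l2⟩ := h.lift2 p n s c e
  exact ⟨l, hl, (k l1).1.1, (k l1).1.2, (k l1).2, l2⟩

theorem lift2 (h : Vw n K ρ) (s : sign σ = 1) (e : σ * σ = 1) (ha : Ok K ρ σ a) (hb : Ok K ρ σ b)
    (ab : a ∈ 𝐂₁ b) : ∃ l ∈ K, l ∈ 𝐂₁ a ∧ l ∈ 𝐂₁ b ∧ l * l = 1 ∧ ρ l = σ :=
  let ⟨l, hl, l1, l2, _, l3⟩ := lift3 h s e ha hb hb ab ab (self_mem_cent1 b); ⟨l, hl, l1, l2, l3⟩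

theorem lift' (h : Vw n K ρ) (s : sign σ = 1) (ha : Ok K ρ σ a) (hb : Ok K ρ σ b)
    (ab : a ∈ 𝐂₁ b) : ∃ l ∈ K, l ∈ 𝐂₁ a ∧ l ∈ 𝐂₁ b ∧ ρ l = σ := by
  obtain ⟨Q, p, n, c, k⟩ := l3 h ha hb hb ab ab (self_mem_cent1 b)
  obtain ⟨l, hl, l1, l2⟩ := h.lift p n s c
  exact ⟨l, hl, (k l1).1.1, (k l1).2, l2⟩

theorem lift1 (h : Vw n K ρ) (s : sign σ = 1) (ha : Ok K ρ σ a) : ∃ l ∈ K, l ∈ 𝐂₁ a ∧ ρ l = σ :=
  let ⟨l, hl, l1, _, l2⟩ := lift' h s ha ha (self_mem_cent1 a); ⟨l, hl, l1, l2⟩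

theorem cjc (h : x ∈ 𝐂₁ y) (g : X) : g * x * g⁻¹ ∈ 𝐂₁ (g * y * g⁻¹) := cj_cent1 g y ▸ conj_mem_cj.2 h

theorem ztcj (h : x ∈ Zt t K) (g : X) : g * x * g⁻¹ ∈ Zt (g * t * g⁻¹) (cj g K) :=
  ⟨cjc h.1 g, cj_Cz g K ▸ conj_mem_cj.2 h.2⟩

theorem le_two (h : PC I H) (k : ∀ x ∈ I, E2 x → x ∈ Y) : I ≤ Y := by
  rw [← h.Op' Nat.prime_two]
  exact (closure_le _).2 fun x ⟨hx, i, e⟩ => k x hx (by rw [PiElt, e]; exact piNat_pow_self Nat.prime_two i)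

theorem ex_iv (e : E2 x) (n : x ≠ 1) : ∃ r ∈ zpowers x, Iv r := exists_iv_of_two e.zpowers (zpowers_ne_bot.2 n)

theorem inj2 (h : Vw n K ρ) (ha : a ∈ K) (hb : b ∈ K) (p : P2 Q) (a1 : a ∈ Q) (b1 : b ∈ Q) (e : ρ a = ρ b) : a = b :=
  mul_inv_eq_one.1 (h.inj2 (mul_mem ha (inv_mem hb)) (p.elt (mul_mem a1 (inv_mem b1))) (by
    rw [h.mul (h.nK ha) (inv_mem (h.nK hb)), h.inv (h.nK hb), e, mul_inv_cancel]))

end Sa

end CF.Ua
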