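import Cfsg.Agent.Ua.Sa1
import Cfsg.Agent.Ua.Xb

/-! The standard configuration: links and standard pairs. -/

set_option autoImplicit false
set_option linter.unusedSectionVars false

namespace CF.Ua

open Subgroup Cfsg CF.BG CF.Sig CF.Ab2 CF.Recog Equiv Equiv.Perm
open CF.GW hiding DT DC
open CF.Sol2A (ι PP Dn TB WF IC cc cs pc_sw)
open CF.StA (dt D4 DT VV)
open CF.AF (sc th Sb Se)
open scoped commutatorElement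

local notation "Alt" => alternatingGroup

universe u
variable {X : Type u} [Group X] [Finite X] {n m : ℕ}
  {a b c d e g l r s t v w x y z : X} {A G H I J K L M P Q R U W Y : Subgroup X} {β : X → X → ℂˣ}
  {ρ μ α η : X → Perm (Fin n)} {ν : X → Perm (Fin m)} {j : Fin m ↪ Fin n} {σ τ γ δ : Perm (Fin n)}
  {p q p' q' : Fin n} {D : Set X} {Kf : X → Subgroup X} {ρf : X → X → Perm (Fin n)}

namespace Sa

/-- the hypotheses of the standard case -/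
structure Cx (β : X → X → ℂˣ) (n : ℕ) : Prop extends Ca β n where
  uq : Uq β n
  m2 : M2 β n

/-- standard pairs -/
structure St (β : X → X → ℂˣ) (n : ℕ) (t : X) (K : Subgroup X) (ρ : X → Perm (Fin n)) (s : X) (L : Subgroup X)
    (μ : X → Perm (Fin n)) : Prop where
  cx : Cx β n
  pt : MP β n t K ρ
  ps : MP β n s L μ
  c : s ∈ 𝐂₁ t
  ty : sc (ρ s) = 4
  ex : ∃ I, PC I (𝐂₁ t ⊓ 𝐂₁ s) ∧ I ≤ K ∧ I ≤ L

theorem sqm (aa : a * a = 1) (bb : b * b = 1) (c : a ∈ 𝐂₁ b) : a * b * (a * b) = 1 := by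
  rw [mul_assoc, ← mul_assoc b, ← mem_cent1.1 c, mul_assoc a, bb, mul_one, aa]

theorem n6 (o : Odd n) : n ≠ 6 := by rintro rfl; exact absurd o (by decide)

theorem okt (k : Pr G β n t K ρ) : Ok K ρ σ t := .cz k.vw k.iv.piElt k.tz.2

theorem kz (h : Vw n K ρ) (hl : l ∈ K) (e : E2 l) (z : l ∈ Cz K) : l = 1 := h.inj2 hl e (h.cz z)

theorem mov (k : Pr G β n t K ρ) (p : P2 Q) (l : Q ≤ Zt t K) (tQ : t ∈ Q) (hs : s ∈ K) (ss : s * s = 1) :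
    ∃ o ∈ 𝒪 K, o ∈ 𝐂₁ t ∧ ∀ x ∈ Q, o * x * o⁻¹ ∈ 𝐂₁ s := by
  have v := k.vw
  obtain ⟨l, hl, l1, l2, l3⟩ := v.lift2 p (fun x hx => Cz_norm K (l hx).2) (v.sgn hs)
    (fun x hx => by simp [v.cz (l hx).2]) (v.sq (v.nK hs) ss)
  obtain ⟨o, ho, o1, o2⟩ := v.conjO k.iv.piGrp (zp_le_norm (Cz_norm K k.tz.2)) (v.nK hl) (v.nK hs)
    (cent_zpowers t ▸ k.pc.le hl) (cent_zpowers t ▸ k.pc.le hs) (e2 l2) (e2 ss)
    ((v.kerO (mul_mem hl (inv_mem hs))).1 (by rw [v.mul (v.nK hl) (inv_mem (v.nK hs)), v.inv (v.nK hs), l3]; simp))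
  exact ⟨o, ho, cent_zpowers t ▸ o1, fun x hx => o2 ▸ cjc (cs (cent_le_cent1 hx l1)) o⟩

theorem ty' (o : Odd n) (k : Pr G β n t K ρ) (k' : Pr G β n s L μ) (c : s ∈ 𝐂₁ t) (sN : s ∈ 𝐍 K) (tN : t ∈ 𝐍 L)
    (m5 : sc (ρ s) + 5 ≤ n) : ∃ m I ν j, Fx n K ρ s m I ν j ∧ PC I (𝐂₁ t ⊓ 𝐂₁ s) ∧ (I ≤ Cz L ∨ sc (μ t) = sc (ρ s)) := by
  have := sc_ev (k.vw.sq sN k'.iv.sq)
  obtain ⟨i, hi⟩ := id o
  obtain ⟨I, ν, j, F, p⟩ := k.vw.fx k.pc k'.iv c sN (m := n - sc (ρ s)) (by omega) (by omega) (by omega)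
  refine ⟨_, I, ν, j, F, p, (k'.vw.tri o k'.pc k.iv (cs c) tN (pc_sw p)).imp_right fun ⟨m, ν', j', F'⟩ => ?_⟩
  have := F'.deg
  have := F.vI.deg F'.vI
  omega

theorem nc4 (f : FP t y) (hS : Syl 2 (V4 t y) H) (l : H ≤ 𝐂₁ t) : H ⊓ 𝐍 (V4 t y) ≤ 𝐂 (V4 t y) := fun g hg => by
  obtain ⟨a, b, ha, hb, e, o, rfl⟩ := exists_piPart {2} g
  have ha := zpowers_le.2 hg ha
  have hb := zpowers_le.2 hg hb
  exact mul_mem (f.abel (hS.mem_of_norm ha.1 ha.2 e))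
    (f.cent_of_odd hb.2 (odd_iff_piElt.2 o) (left_mem_V4 t y) f.l.ne_one (l hb.1))

namespace Cx
variable (h : Cx β n) (k : MP β n t K ρ)
include h k

theorem mcj (g : X) : MP β n (g * t * g⁻¹) (cj g K) fun x => ρ (g⁻¹ * x * g) := k.cj h.bt (mem_top g)

theorem nrm (hg : g ∈ 𝐂₁ t) : g ∈ 𝐍 K := by
  have := h.mcj k g
  rw [cc hg] at this
  exact cj_eq_self.1 (h.uq this k)

theorem zc' (hx : x ∈ Zt t K) (hg : g ∈ 𝐂₁ t) : g * x * g⁻¹ ∈ Zt t K := by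
  simpa only [cc hg, cj_of_norm (h.nrm k hg)] using ztcj hx g

theorem lk (k' : MP β n r L μ) (z : r ∈ Zt t K) : t ∈ Cz L ∧ (∀ l ∈ K, l ∈ 𝐂₁ r → E2 l → l ∈ L) ∧
    ∃ σ, ∀ g ∈ 𝐂₁ t, g ∈ 𝐂₁ r → μ g = σ * ρ g * σ⁻¹ := by
  obtain ⟨L', μ', k1, -, -, k2, k3, k4⟩ := h.toCa.link k k'.iv z
  obtain rfl := h.uq k1 k'
  obtain ⟨σ, e⟩ := k1.vw.uniq k'.vw (n6 h.odd)
  exact ⟨k2, k3, σ, fun g a b => by rw [e g (h.nrm k' b), (k4 g (h.nrm k a) a b).2]⟩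

theorem lks (k' : MP β n r L μ) (z : r ∈ Zt t K) (a : g ∈ 𝐂₁ t) (b : g ∈ 𝐂₁ r) :
    sc (μ g) = sc (ρ g) ∧ sign (μ g) = sign (ρ g) := by
  obtain ⟨σ, e⟩ := (h.lk k k' z).2.2
  rw [e g a b, AF.sc_conj]
  simp [mul_right_comm]

theorem lkz (k' : MP β n r L μ) (z : r ∈ Zt t K) (a : g ∈ Zt t K) (b : g ∈ 𝐂₁ r) : g ∈ Cz L :=
  (k'.vw.ker (h.nrm k' b)).1 (AF.sc_zero.1 ((h.lks k k' z a.1 b).1.trans (AF.sc_zero.2 (k.vw.cz a.2))))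

theorem one1 (k' : MP β n s L μ) (c : s ∈ 𝐂₁ t) (nz : s ∉ Cz K) (hx : x ∈ Zt t K) (hx' : x ∈ Zt s L) (e : E2 x) :
    x = 1 := by_contra fun n => by
  obtain ⟨r, hr, i⟩ := ex_iv e n
  have r1 := zpowers_le.2 hx hr
  have r2 := zpowers_le.2 hx' hr
  obtain ⟨M, η, k2, -, -, k3, -⟩ := h.toCa.link k i r1
  exact nz (h.lkz k2 k ⟨cs r1.1, k3⟩ ⟨cs r2.1, (h.lk k' k2 r2).1⟩ c)

theorem nzs (k' : MP β n s L μ) (c : s ∈ 𝐂₁ t) (nz : s ∉ Cz K) : t ∉ Cz L := fun e => nz (h.lk k' k ⟨cs c, e⟩).1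

theorem ty (k' : MP β n s L μ) (c : s ∈ 𝐂₁ t) (m5 : sc (ρ s) + 5 ≤ n) :
    ∃ m I ν j, Fx n K ρ s m I ν j ∧ PC I (𝐂₁ t ⊓ 𝐂₁ s) ∧ (I ≤ Cz L ∨ sc (μ t) = sc (ρ s)) :=
  ty' h.odd k k' c (h.nrm k c) (h.nrm k' (cs c)) m5

theorem evK (hs : s ∈ K) (ss : s * s = 1) : ∃ y, Iv y ∧ y ∈ Zt t K ∧ y ≠ t ∧ y ∈ 𝐂₁ s := by
  obtain ⟨r, i, z, ne⟩ := h.m2 k
  obtain ⟨o, -, o1, o2⟩ := mov k (p2v k.iv.piElt i.piElt (cs z.1)) (V4_le.2 ⟨k.tz, z⟩) (left_mem_V4 t r) hs ss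
  exact ⟨_, i.conj o, h.zc' k z o1, fun e => ne (by rw [← cc o1] at e; simpa using e), o2 r (right_mem_V4 t r)⟩

/-- an involution with even view centralizes a four-group of the kernel -/
theorem ev (hd : d ∈ 𝐂₁ t) (dd : d * d = 1) (e : sign (ρ d) = 1) : ∃ y, Iv y ∧ y ∈ Zt t K ∧ y ≠ t ∧ y ∈ 𝐂₁ d := by
  have v := k.vw
  have dN := h.nrm k hd
  obtain ⟨l, hl, l1, l2, l3, l4⟩ := lift2 v e (v.sq dN dd) (okt k) ⟨e2 dd, dN, .refl _⟩ (cs hd)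
  have z : l * d ∈ Zt t K := ⟨mul_mem l1 hd, (v.ker (mul_mem (v.nK hl) dN)).1 (by rw [v.mul (v.nK hl) dN, l4, v.sq dN dd])⟩
  obtain ⟨y, i, y1, y2, y3⟩ := h.evK k hl l3
  have e : d = l * (l * d) := by rw [← mul_assoc, l3, one_mul]
  by_cases a : l * d = 1
  · exact ⟨y, i, y1, y2, by rwa [e, a, mul_one]⟩
  by_cases b : l * d = t
  · exact ⟨y, i, y1, y2, by rw [e, b]; exact cent1_mul_of y3 y1.1⟩
  exact ⟨_, .mk' a (sqm l3 dd l2), z, b, mul_mem l2 (self_mem_cent1 d)⟩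

end Cx

namespace St
variable (h : St β n t K ρ s L μ)
include h

theorem sN : s ∈ 𝐍 K := h.cx.nrm h.pt h.c
theorem tN : t ∈ 𝐍 L := h.cx.nrm h.ps (cs h.c)

theorem fx : ∃ m I ν j j', Fx n K ρ s m I ν j ∧ Fx n L μ t m I ν j' := by
  obtain ⟨I, p, a, b⟩ := h.ex
  obtain ⟨m, ν, j, F⟩ := (h.pt.vw.tri h.cx.odd h.pt.pc h.ps.iv h.c h.sN p).resolve_left (CT.not_CZ_of_le Nat.prime_two p a)
  obtain ⟨j', F'⟩ := h.ps.vw.fx_le h.cx.odd h.ps.pc h.pt.iv (cs h.c) (pc_sw p) b F.vI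
  exact ⟨m, I, ν, j, j', F, F'⟩

theorem symm : St β n s L μ t K ρ := by
  obtain ⟨m, I, ν, j, j', F, F'⟩ := h.fx
  have := F.deg; have := F'.deg; have := h.ty
  exact ⟨h.cx, h.ps, h.pt, cs h.c, by omega, h.ex.imp fun I a => ⟨pc_sw a.1, a.2.2, a.2.1⟩⟩

theorem dT : DT (ρ s) := ⟨h.pt.vw.sq h.sN h.ps.iv.sq, h.ty⟩
theorem nz : s ∉ Cz K := fun e => h.dT.ne_one (h.pt.vw.cz e)

theorem fix (a : g ∈ 𝐂₁ t) (b : g ∈ 𝐂₁ s) (e : ∀ p, ρ s p = p → ρ g p = p) : ∀ p, μ t p = p → μ g p = p := by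
  obtain ⟨m, I, ν, j, j', F, F'⟩ := h.fx
  exact (F'.cz (h.cx.nrm h.ps b) a).1 ((F.cz (h.cx.nrm h.pt a) b).2 e)

theorem fixz (a : g ∈ Zt t K) (b : g ∈ 𝐂₁ s) : ∀ p, μ t p = p → μ g p = p :=
  h.fix a.1 b fun p _ => by rw [h.pt.vw.cz a.2, one_apply]

theorem oz (hg : g ∈ 𝒪 (𝐂₁ t ⊓ 𝐂₁ s)) : ρ g = 1 :=
  (h.pt.vw.otriv h.cx.odd h.pt.pc h.ps.iv h.c h.sN hg).2.2 (by have := h.cx.n9; have := h.ty; omega)

theorem inj (a : x ∈ Zt t K ⊓ 𝐂₁ s) (b : y ∈ Zt t K ⊓ 𝐂₁ s) (e : E2 (x * y⁻¹)) (k : μ x = μ y) : x = y := by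
  have m := mul_mem a (inv_mem b)
  have xN := h.cx.nrm h.ps a.2
  have yN := h.cx.nrm h.ps b.2
  exact mul_inv_eq_one.1 (h.cx.one1 h.pt h.ps h.c h.nz m.1 ⟨m.2, (h.ps.vw.ker (h.cx.nrm h.ps m.2)).1 (by
    rw [h.ps.vw.mul xN (inv_mem yN), h.ps.vw.inv yN, k, mul_inv_cancel])⟩ e)

theorem tz : t ∈ Zt t K ⊓ 𝐂₁ s := ⟨h.pt.tz, cs h.c⟩

theorem ee (e : E2 r) (z : r ∈ Zt t K ⊓ 𝐂₁ s) : ∃ e ∈ K, e ∈ L ∧ e ∈ 𝐂₁ r ∧ Iv e ∧ sc (ρ e) = 4 ∧ sc (μ e) = 4 ∧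
    ∀ p, ρ s p ≠ p → ρ e p = p := by
  obtain ⟨m, I, ν, j, j', F, F'⟩ := h.fx
  obtain ⟨δ, d, f, -⟩ := off' (τ := ρ s) (by have := h.cx.n9; have := h.ty; omega)
  obtain ⟨l, hl, -, l1, l2, l3, rfl⟩ := lift3 h.pt.vw d.alt d.1 (okt h.pt) ⟨h.ps.iv.piElt, h.sN,
    Disjoint.commute fun x => (em (ρ s x = x)).symm.imp_left (f x)⟩ (.cz h.pt.vw e z.1.2) (cs h.c) (cs z.1.1) (cs z.2)
  have lI := F.two hl l1 (e2 l3) f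
  exact ⟨l, hl, F'.le lI, l2, .mk' (fun e => d.ne_one (e ▸ h.pt.vw.one)) l3, d.2,
    (F'.sc_eq lI).trans ((F.sc_eq lI).symm.trans d.2), f⟩

theorem no2 (i : Iv r) (z : r ∈ Zt t K ⊓ 𝐂₁ s) : sc (μ r) ≠ 2 := fun e => by
  obtain ⟨M, η, k, -, -, -, k3, k4⟩ := h.cx.toCa.link h.pt i z.1
  have e1 := (k4 s h.sN h.c (cs z.2)).2
  have := h.cx.n9
  have := h.ty
  obtain ⟨m, I, ν, j, F, -, l | l⟩ := h.cx.ty k h.ps (cs z.2) (by rw [e1]; omega)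
  · obtain ⟨x, x1, x2, x3, i', -, -, x4⟩ := h.ee i.piElt z
    refine i'.ne_one (kz h.ps.vw x2 i'.piElt (l (F.two (k3 x x1 x3 i'.piElt) (h.ps.pc.le x2) i'.piElt ?_)))
    rwa [e1, (k4 x (h.pt.vw.nK x1) (h.pt.pc.le x1) x3).2]
  · rw [e1] at l; omega

theorem cls (i : Iv r) (z : r ∈ Zt t K ⊓ 𝐂₁ s) (ne : r ≠ t) :
    ∃ p q p' q', D4 p q p' q' ∧ μ t = dt p q p' q' ∧ μ r = dt p p' q q' := by
  have rN := h.cx.nrm h.ps z.2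
  obtain ⟨p, q, p', q', d, e, k⟩ := cls8 h.symm.dT (h.ps.vw.comm rN h.tN (mem_cent1.1 z.1.1)) (h.fixz z.1 z.2)
    (h.ps.vw.sq rN i.sq) (fun e => i.ne_one (h.inj z (one_mem _) (by simpa using i.piElt) (e.trans h.ps.vw.one.symm)))
    fun e => ne (h.inj z h.tz (i.piElt.mul h.pt.iv.piElt.inv (mem_cent1.1 (cs (inv_mem (cs z.1.1))))) e)
  exact ⟨p, q, p', q', d, e, k.resolve_right fun k => h.no2 i z (k ▸ sc_swap d.ab)⟩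

theorem tL (i : Iv r) (z : r ∈ Zt t K ⊓ 𝐂₁ s) (ne : r ≠ t) : t ∈ L := by
  have v := h.ps.vw
  have rN := h.cx.nrm h.ps z.2
  obtain ⟨p, q, p', q', d, e, k⟩ := h.cls i z ne
  obtain ⟨c, c1, c2, c3⟩ := pa (by have := h.cx.n9; omega) d (.inl k)
  obtain ⟨y, hy, y1, rfl⟩ := lift1 v c1 ⟨h.pt.iv.piElt, h.tN, e ▸ c2⟩
  rw [← v.cm rN (v.nK hy), ← e] at c3
  have a := Sol2A.cm_mem rN hy
  have b : ⁅r, y⁆ ∈ Zt t K ⊓ 𝐂₁ s := mem_inf.2 ⟨by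
    simpa only [commutatorElement_def, mul_assoc] using mul_mem (mem_inf.1 z).1 (h.cx.zc' h.pt (inv_mem z.1) y1),
    h.ps.pc.le a⟩
  obtain ⟨l, hl, l1, l2⟩ := v.part2 (v.nK a) (c3 ▸ e2 h.symm.dT.1)
  have b := zpowers_le.2 b hl
  exact h.inj b h.tz (l1.mul h.pt.iv.piElt.inv (mem_cent1.1 (cs (inv_mem (cs b.1.1))))) (l2.trans c3) ▸
    zpowers_le.2 a hl

theorem f4 (p2 : P2 R) (l : R ≤ Zt t K ⊓ 𝐂₁ s) (tR : t ∈ R) (rR : r ∈ R) (i : Iv r) (ne : r ≠ t) : R ≤ V4 t r := by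
  intro x hx
  have v := h.ps.vw
  have N := fun x hx => h.cx.nrm h.ps (l (x := x) hx).2
  have I := fun x hx y hy => h.inj (l (x := x) hx) (l (x := y) hy) (p2.elt (mul_mem hx (inv_mem hy)))
  obtain ⟨p, q, p', q', d, e, k⟩ := h.cls i (l rR) ne
  rcases d8' d (e ▸ v.comm (N x hx) h.tN (mem_cent1.1 (l hx).1.1)) (e ▸ h.fixz (l hx).1 (l hx).2) with a | ⟨-, δ, a, b, c⟩
  · rw [(FP.mk' h.pt.iv i (l rR).1.1 ne).mem]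
    refine (d.mem_VV.1 a).imp (fun a => I x hx 1 (one_mem _) (a.trans v.one.symm)) (.imp (fun a => I x hx t tR
      (a.trans e.symm)) (.imp (fun a => I x hx r rR (a.trans k.symm)) fun a => I x hx _ (mul_mem tR rR) ?_))
    rw [v.mul h.tN (N r rR), e, k, d.mul, a]
  obtain ⟨y, hy, rfl⟩ : ∃ y ∈ R, μ y = δ := a.elim (fun a => ⟨x, hx, a.symm⟩) fun a =>
    ⟨_, mul_mem hx rR, by rw [v.mul (N x hx) (N r rR), k, a]⟩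
  exact absurd c (h.no2 (.mk' (fun e => by rw [e, v.one, AF.sc_zero.2 rfl] at c; omega) (I _ (mul_mem hy hy) 1 (one_mem _) (by
    rw [v.mul (N y hy) (N y hy), b, v.one]))) (l hy))

theorem rL (i : Iv r) (z : r ∈ Zt t K ⊓ 𝐂₁ s) (ne : r ≠ t) : r ∈ L ∧ IsConj t r := by
  have v := h.ps.vw
  have rN := h.cx.nrm h.ps z.2
  have tL := h.tL i z ne
  obtain ⟨p, q, p', q', d, e, k⟩ := h.cls i z ne
  obtain ⟨y, hy, y1, y2, y3, y4⟩ := lift2 v d.s2.alt d.s2.sq ⟨h.pt.iv.piElt, h.tN, e ▸ d.comm.symm⟩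
    ⟨i.piElt, rN, k ▸ .refl _⟩ (cs z.1.1)
  have f : FP t y := .mk' h.pt.iv (.mk' (fun a => d.s2.dT.ne_one (by rw [← y4, a, v.one])) y3) y1
    fun a => d.ne (by rw [← e, ← y4, a])
  have z2 := (e2 y3).mul i.piElt (mem_cent1.1 y2)
  have z1 : y * r ∈ Zt s L := ⟨mul_mem (h.ps.pc.le hy) z.2, (v.ker (mul_mem (v.nK hy) rN)).1 (by
    rw [v.mul (v.nK hy) rN, y4, k, d.s2.sq])⟩
  have l : V4 t y ≤ L := V4_le.2 ⟨tL, hy⟩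
  obtain ⟨σ, s1, s2, s3⟩ := p3 d
  have ty : μ (t * y) = dt p q p' q' * dt p p' q q' := by rw [v.mul h.tN (v.nK hy), e, y4]
  obtain ⟨κ, hκ, k1, k2, rfl⟩ := v.liftN f.pi z2.zpowers l (zp_le_norm (Cz_norm L z1.2)) s1 (fun x hx => by
    rcases f.mem.1 hx with rfl | rfl | rfl | rfl
    · exact ⟨1, hx, by simp [v.one]⟩
    · exact ⟨y, right_mem_V4 _ _, by rw [e, s2, y4]⟩
    · exact ⟨t * x, f.mem.2 (by simp), by rw [y4, s3, ty]⟩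
    · exact ⟨t, left_mem_V4 _ _, by rw [ty, ← conj_mul, s2, s3, d.comm.eq, ← mul_assoc, d.s2.sq, one_mul, e]⟩)
    (fun x hx => by simp [v.cz (zpowers_le.2 z1.2 hx)])
    (by rw [cent_zpowers]; exact V4_le.2 ⟨cs (mul_mem y1 z.1.1), cs (mul_mem (self_mem_cent1 y) (cs y2))⟩)
  rw [cent_zpowers] at k2
  have J := fun x hx y hy => inj2 v (conj_mem_of_norm (v.nK hκ) (l (x := x) hx)) (l (x := y) hy) f.pi
    (conj_mem_of_norm k1 hx) hy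
  have a : κ * t * κ⁻¹ = y := J t (left_mem_V4 _ _) y (right_mem_V4 _ _) (by rw [v.conj (v.nK hκ) h.tN, e, s2, y4])
  have b : κ * y * κ⁻¹ = t * y := J y (right_mem_V4 _ _) _ (f.mem.2 (by simp)) (by
    rw [v.conj (v.nK hκ) (v.nK hy), y4, s3, ty])
  have c : κ * r * κ⁻¹ = t * r := by
    rw [show r = y * (y * r) by rw [← mul_assoc, y3, one_mul], ← conj_mul, b, cc k2, mul_assoc]
  have m := h.cx.mcj h.pt κ
  have z3 := ztcj z.1 κ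
  rw [a] at m z3
  have : y ∈ Cz K := by_contra fun nz => (h.pt.iv.mul i (mem_cent1.1 z.1.1).symm ne.symm).ne_one
    (h.cx.one1 h.pt m y1 nz (mul_mem h.pt.tz z.1) (c ▸ z3) (c ▸ i.piElt.conj κ))
  obtain rfl : y = r := by
    rw [← mul_inv_eq_one, i.inv_eq]
    exact h.cx.one1 h.pt h.ps h.c h.nz (mul_mem ⟨y1, this⟩ z.1) z1 z2
  exact ⟨hy, isConj_iff.2 ⟨κ, a⟩⟩

end St

end Sa

end CF.Ua
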