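import Cfsg.Agent.Ua.Sa2

/-! The standard configuration: the kernel and the odd element. -/

set_option autoImplicit false
set_option linter.unusedSectionVars false

namespace CF.Ua

open Subgroup Cfsg CF.BG CF.Sig CF.Ab2 CF.Recog Equiv Equiv.Perm
open CF.GW hiding DT DC
open CF.Sol2A (ι PP Dn TB WF IC cc cs pc_sw)
open CF.StA (dt D4 DT VV)
open CF.AF (sc th Sb Se)
open scoped commutatorElement

local notation "Alt" => alternatingGroup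

universe u
variable {X : Type u} [Group X] [Finite X] {n m : ℕ}
  {a b c d e g l r s t v w x y : X} {A G H I J K L M P Q R U W Y : Subgroup X} {β : X → X → ℂˣ}
  {ρ μ α η : X → Perm (Fin n)} {ν : X → Perm (Fin m)} {j : Fin m ↪ Fin n} {σ τ γ δ : Perm (Fin n)}
  {p q p' q' : Fin n} {D : Set X} {Kf : X → Subgroup X} {ρf : X → X → Perm (Fin n)}

namespace Sa

theorem vv (v : Vw n K ρ) (ha : a ∈ 𝐍 K) (hb : b ∈ 𝐍 K) (d : D4 p q p' q') (ea : ρ a = dt p q p' q')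
    (eb : ρ b = dt p p' q q') (h : γ ∈ VV p q p' q') : ∃ u ∈ V4 a b, ρ u = γ := by
  rcases d.mem_VV.1 h with rfl | rfl | rfl | rfl
  exacts [⟨1, one_mem _, v.one⟩, ⟨a, left_mem_V4 _ _, ea⟩, ⟨b, right_mem_V4 _ _, eb⟩,
    ⟨_, mul_mem (left_mem_V4 _ _) (right_mem_V4 _ _), by rw [v.mul ha hb, ea, eb, d.mul]⟩]

theorem sgV (d : D4 p q p' q') (c1 : Commute γ (dt p q p' q')) (c2 : Commute γ (dt p p' q q')) :
    ∃ δ, sign δ = 1 ∧ (∀ x, dt p q p' q' x = x → δ x = x) ∧ ∀ x, dt p q p' q' x ≠ x → γ x = δ x := by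
  obtain ⟨δ, hδ, e⟩ := d.cV c1 c2
  have s : ∀ x, dt p q p' q' x ≠ x ↔ x = p ∨ x = q ∨ x = p' ∨ x = q' := fun x => by
    rw [← mem_support, d.supp]; simp
  refine ⟨δ, d.VV_alt hδ, fun x hx => ?_, fun x hx => ?_⟩
  · have := (s x).not.1 (not_not.2 hx)
    exact d.VV_fix hδ (by grind) (by grind) (by grind) (by grind)
  · rcases (s x).1 hx with rfl | rfl | rfl | rfl <;> simp [e]

theorem nO (i : Iv x) : x ∉ 𝒪 H := fun h => i.ne_one (i.piElt.eq_one ((O_pi _ _).elt h))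

theorem nv (f : FP t y) (a : g ∈ 𝐂₁ t) (b : g * y * g⁻¹ = t * y) : g ∈ 𝐍 (V4 t y) :=
  cj_eq_self.1 (by rw [cj_V4, cc a, b, f.V4_mul])

theorem Cx.znor (h : Cx β n) (k : MP β n t K ρ) : Zt t K ⊴ 𝐂₁ t :=
  normalIn_inf_left (norm_Cz fun _ => h.nrm k)

theorem St.tr (h : St β n t K ρ s L μ) (k : MP β n (g * t * g⁻¹) A α) (k' : MP β n (g * s * g⁻¹) Y η) :
    St β n (g * t * g⁻¹) A α (g * s * g⁻¹) Y η := by
  have m := h.cx.mcj h.pt g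
  obtain rfl := h.cx.uq m k
  obtain rfl := h.cx.uq (h.cx.mcj h.ps g) k'
  obtain ⟨σ, e⟩ := m.vw.uniq k.vw (n6 h.cx.odd)
  obtain ⟨I, p, a, b⟩ := h.ex
  refine ⟨h.cx, k, k', cjc h.c g, ?_, cj g I, ?_, cj_mono g a, cj_mono g b⟩
  · rw [e _ (h.cx.nrm k (cjc h.c g)), AF.sc_conj]
    simpa [mul_assoc] using h.ty
  · simpa only [cj_inf, cj_cent1] using p.cj Nat.prime_two g

/-- standard pairs with `s ∈ K` -/
structure Sk (β : X → X → ℂˣ) (n : ℕ) (t : X) (K : Subgroup X) (ρ : X → Perm (Fin n)) (s : X) (L : Subgroup X)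
    (μ : X → Perm (Fin n)) : Prop extends St β n t K ρ s L μ where
  sK : s ∈ K

namespace Sk
variable (h : Sk β n t K ρ s L μ)
include h

theorem ry : ∃ r, Iv r ∧ r ∈ Zt t K ⊓ 𝐂₁ s ∧ r ≠ t :=
  let ⟨y, a, b, c, d⟩ := h.cx.evK h.pt h.sK h.ps.iv.sq; ⟨y, a, ⟨b, d⟩, c⟩

theorem symm : Sk β n s L μ t K ρ := let ⟨_, a, b, c⟩ := h.ry; ⟨h.toSt.symm, h.tL a b c⟩

theorem conj : IsConj t s := by
  obtain ⟨e, a, b, -, i, c, d, -⟩ := h.ee h.pt.iv.piElt h.tz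
  obtain ⟨g, -, hg⟩ := h.pt.vw.conjK h.sN h.ps.iv.sq i.sq (mul_mem h.sK a) (h.ty.trans c.symm)
  obtain ⟨g', -, hg'⟩ := h.ps.vw.conjK h.tN h.pt.iv.sq i.sq (mul_mem h.symm.sK b) (h.symm.ty.trans d.symm)
  exact (isConj_iff.2 ⟨_, hg'⟩).trans (isConj_iff.2 ⟨_, hg⟩).symm

theorem tr (k : MP β n (g * t * g⁻¹) A α) : ∃ s L μ, Sk β n (g * t * g⁻¹) A α s L μ :=
  ⟨_, _, _, h.toSt.tr k (h.cx.mcj h.ps g), h.cx.uq (h.cx.mcj h.pt g) k ▸ conj_mem_cj.2 h.sK⟩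

theorem cj (c : IsConj t d) : ∃ K ρ s L μ, Sk β n d K ρ s L μ := by
  obtain ⟨g, rfl⟩ := isConj_iff.1 c
  exact ⟨_, _, h.tr (h.cx.mcj h.pt g)⟩

theorem of (c : IsConj t d) (k : MP β n d A α) : ∃ s L μ, Sk β n d A α s L μ := by
  obtain ⟨g, rfl⟩ := isConj_iff.1 c
  exact h.tr k

theorem all' (he : e ∈ K) (i : Iv e) (ty : sc (ρ e) = 4) :
    IsConj t e ∧ ∀ {A α}, MP β n e A α → Sk β n t K ρ e A α := by
  obtain ⟨g, hg, rfl⟩ := h.pt.vw.conjK h.sN h.ps.iv.sq i.sq (mul_mem h.sK he) (h.ty.trans ty.symm)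
  refine ⟨h.conj.trans (isConj_iff.2 ⟨g, rfl⟩), fun k => ⟨?_, he⟩⟩
  have e := cc (h.pt.pc.le hg)
  have := h.toSt.tr (g := g) (e.symm ▸ h.pt) k
  rwa [e] at this

theorem all (he : e ∈ K) (i : Iv e) (ty : sc (ρ e) = 4) : ∃ A α, Sk β n t K ρ e A α :=
  let ⟨a, b⟩ := h.all' he i ty; let ⟨_, _, _, _, _, k⟩ := h.cj a; ⟨_, _, b k.pt⟩

theorem adj (p : P2 Q) (l : Q ≤ Zt t K) : ∃ s L μ, Sk β n t K ρ s L μ ∧ Q ≤ 𝐂₁ s := by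
  have v := h.pt.vw
  obtain ⟨l, hl, l1, l2, l3⟩ := v.lift2 p (fun x hx => Cz_norm K (l hx).2) h.dT.alt
    (fun x hx => by simp [v.cz (l hx).2]) h.dT.1
  obtain ⟨A, α, k⟩ := h.all hl (.mk' (fun e => h.dT.ne_one (by rw [← l3, e, v.one])) l2) (l3 ▸ h.ty)
  exact ⟨l, A, α, k, fun x hx => cs (cent_le_cent1 hx l1)⟩

theorem adj1 (i : Iv y) (z : y ∈ Zt t K) : ∃ s L μ, Sk β n t K ρ s L μ ∧ y ∈ Zt t K ⊓ 𝐂₁ s :=
  let ⟨s, L, μ, k, l⟩ := h.adj i.piGrp (zpowers_le.2 z); ⟨s, L, μ, k, z, l (mem_zpowers y)⟩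

theorem zD (i : Iv y) (z : y ∈ Zt t K) : IsConj t y := by
  obtain rfl | ne := eq_or_ne y t
  · rfl
  obtain ⟨s, L, μ, k, l⟩ := h.adj1 i z
  exact (k.rL i l ne).2

theorem vz (hv : v ∈ K) (cv : v ∈ 𝐂₁ s) (f : ∀ p, ρ s p = p → ρ v p = p) : v ∈ Cz L := by
  have w := h.pt.vw
  obtain ⟨u, i, z, ne⟩ := h.symm.ry
  obtain ⟨p, q, p', q', d, e, k⟩ := h.symm.cls i z ne
  have uK := (h.symm.rL i z ne).1
  obtain a | ⟨a, -⟩ := d8' d (e ▸ w.comm (w.nK hv) h.sN (mem_cent1.1 cv)) (e ▸ f)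
  swap; · exact absurd (a.symm.trans (w.sgn hv)) (by decide)
  obtain ⟨x, hx, a⟩ := vv w h.sN (w.nK uK) d e k a
  have xK := V4_le.2 ⟨h.sK, uK⟩ hx
  have xz := mem_inf.1 (V4_le.2 ⟨h.ps.tz, z.1⟩ hx)
  have c := mul_mem (inv_mem xz.1) cv
  have := Sol2A.oH h.pt.pc ((w.kerO (mul_mem (inv_mem xK) hv)).1 (by
    rw [w.mul (inv_mem (w.nK xK)) (w.nK hv), w.inv (w.nK xK), a, inv_mul_cancel])) c
  exact (mul_mem_cancel_left (inv_mem xz.2)).1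
    ((h.ps.vw.ker (h.cx.nrm h.ps c)).1 (h.symm.oz (inf_comm (𝐂₁ t) _ ▸ this)))

variable (i : Iv y) (z : y ∈ Zt t K) (ne : y ≠ t)
include i z ne

theorem fp : FP t y := .mk' h.pt.iv i z.1 ne

theorem syl : Syl 2 (V4 t y) (Zt t K) := by
  obtain ⟨P, sP, l⟩ := exists_syl_le (V4_le.2 ⟨h.pt.tz, z⟩) (h.fp i z ne).pi
  obtain ⟨s, L, μ, k, c⟩ := h.adj sP.pi sP.le
  rwa [le_antisymm l (k.f4 sP.pi (le_inf sP.le c) (l (left_mem_V4 _ _)) (l (right_mem_V4 _ _)) i ne)]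

theorem zle : Zt t K ≤ V4 t y ⊔ Oc 2 t :=
  (AF.burn (h.syl i z ne) (nc4 (h.fp i z ne) (h.syl i z ne) inf_le_left)).trans
    (sup_le_sup_left (O_le_O_of_normal (h.cx.znor h.pt) _) _)

theorem dec (hx : x ∈ Zt t K) : ∃ v ∈ V4 t y, ∃ o ∈ Oc 2 t, v * o = x :=
  (mem_sup_norm ((V4_le.2 ⟨self_mem_cent1 t, z.1⟩).trans (O_normal _ _).norm)).1 (h.zle i z ne hx)

theorem cos (i' : Iv x) (hx : x ∈ Zt t K) (ne' : x ≠ t) : y * x ∈ Oc 2 t ∨ t * y * x ∈ Oc 2 t := by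
  obtain ⟨v, hv, o, ho, rfl⟩ := h.dec i z ne hx
  have f := h.fp i z ne
  have e : ∀ v ∈ V4 t y, v * (v * o) ∈ Oc 2 t := fun v hv => by rwa [← mul_assoc, f.sq hv, one_mul]
  rcases f.mem.1 hv with rfl | rfl | rfl | rfl
  · exact absurd (by simpa using ho) (nO i')
  · exact absurd (e _ hv) (nO (h.pt.iv.mul i' (mem_cent1.1 hx.1).symm ne'.symm))
  exacts [.inl (e _ hv), .inr (e _ hv)]

end Sk

theorem Sk.cmz (h : Sk β n t K ρ s L μ) : ⁅Zt t K, Zt t K⁆ ≤ Oc 2 t := by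
  obtain ⟨y, i, z, ne⟩ := h.ry
  have N : 𝐂₁ t ≤ 𝐍 (Oc 2 t) := (O_normal _ _).norm
  have V : V4 t y ≤ 𝐂₁ t := V4_le.2 ⟨self_mem_cent1 t, z.1.1⟩
  have k : ∀ {U : Subgroup X}, U ≤ 𝐂₁ t → ⁅V4 t y, U⁆ ≤ Oc 2 t → ⁅Zt t K, U⁆ ≤ Oc 2 t := fun {U} l c =>
    (le_centMod (V := Oc 2 t).1 ((h.zle i z.1 ne).trans (sup_le (le_centMod.2 ⟨V.trans N, c⟩)
      fun a ha => mem_centMod.2 ⟨le_norm_self _ ha, fun b hb => Sol2A.cm_inv (Sol2A.O_cm (l hb) ha)⟩))).2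
  refine k inf_le_left ?_
  rw [commutator_comm]
  refine k V ?_
  rw [der_eq_bot.2 (h.fp i z.1 ne).abel]; exact bot_le

theorem Sk.x0 (h : Sk β n t K ρ s L μ) (i : Iv y) (z : y ∈ Zt t K ⊓ 𝐂₁ s) (ne : y ≠ t) :
    ∃ x, Iv x ∧ x ∈ 𝐂₁ t ∧ x * y * x⁻¹ = t * y ∧ IsConj t x ∧ sign (ρ x) = -1 := by
  have v := h.ps.vw
  have w := h.pt.vw
  have f := h.fp i z.1 ne
  have tL := h.symm.sK
  have yL := (h.rL i z ne).1
  have l : V4 t y ≤ L := V4_le.2 ⟨tL, yL⟩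
  obtain ⟨p, q, p', q', d, e, k⟩ := h.cls i z ne
  obtain ⟨σ, s0, s1, s2, s3⟩ := pq (by have := h.cx.n9; omega) d
  have ty : μ (t * y) = dt p q p' q' * dt p p' q q' := by rw [v.mul h.tN (v.nK yL), e, k]
  obtain ⟨g, hg, g1, -, g2⟩ := v.liftN f.pi (piGrp_bot _) l bot_le s0.alt (fun x hx => by
    rcases f.mem.1 hx with rfl | rfl | rfl | rfl
    · exact ⟨1, hx, by simp [v.one]⟩
    · exact ⟨x, hx, by rw [e, s1]⟩
    · exact ⟨t * x, f.mem.2 (by simp), by rw [k, s2, ty]⟩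
    · exact ⟨y, right_mem_V4 _ _, by rw [ty, ← conj_mul, s1, s2, ← mul_assoc, d.sq, one_mul, k]⟩)
    (fun x hx => by simp [mem_bot.1 hx, v.one]) (by simp)
  obtain ⟨x, hx, x1, x2⟩ := v.part2 (v.nK hg) (g2 ▸ e2 s0.1)
  have xL := zpowers_le.2 hg hx
  have xV := zpowers_le.2 g1 hx
  rw [g2] at x2
  have xN := v.nK xL
  have ix : Iv x := .mk' (fun a => s0.ne_one (by rw [← x2, a, v.one]))
    (v.inj2 (mul_mem xL xL) (x1.mul x1 rfl) (by rw [v.mul xN xN, x2, s0.1]))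
  have J := fun x' hx y hy => inj2 v (conj_mem_of_norm xN (l (x := x') hx)) (l (x := y) hy) f.pi
    (conj_mem_of_norm xV hx) hy
  have a : x ∈ 𝐂₁ t := mem_cent1.2 (mul_inv_eq_iff_eq_mul.1 (J t (left_mem_V4 _ _) t (left_mem_V4 _ _) (by
    rw [v.conj xN h.tN, e, x2, s1])))
  obtain ⟨c, -, hc⟩ := v.conjK h.tN h.pt.iv.sq ix.sq (mul_mem tL xL) (h.symm.ty.trans (x2 ▸ s0.2).symm)
  refine ⟨x, ix, a, J y (right_mem_V4 _ _) (t * y) (f.mem.2 (by simp)) (by rw [v.conj xN (v.nK yL), k, x2, s2, ty]),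
    isConj_iff.2 ⟨c, hc⟩, ?_⟩
  obtain ⟨m, I, ν, j, j', F, F'⟩ := h.fx
  have xK := h.cx.nrm h.pt a
  have b := h.ps.pc.le xL
  have e1 := sgn_res F'.rng (F'.nrm xN a).2 (δ := swap p q) (fun x hx => by
    have := d.ap1; have := d.ap2; have := d.ab
    rw [e] at hx; exact swap_apply_of_ne_of_ne (by grind) (by grind)) (by rwa [x2, e])
  obtain ⟨u, iu, zu, nu⟩ := h.symm.ry
  obtain ⟨p, q, p', q', d', e', k'⟩ := h.symm.cls iu zu nu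
  have c2 : ρ ⁅u, x⁆ = 1 := h.oz (inf_comm (𝐂₁ s) _ ▸ Sol2A.oH h.ps.pc (v.odd (Sol2A.cm_mem (Cz_norm L zu.1.2) xL)
    (Sol2A.cm_inv (Sol2A.cm_mem (norm_Cz le_rfl xN) zu.1.2))) (Sol2A.cm_inv (Sol2A.cm_mem (le_norm_self _ a) zu.2)))
  rw [w.cm (h.cx.nrm h.pt zu.2) xK, commutatorElement_eq_one_iff_commute, k'] at c2
  obtain ⟨δ, d1, d2, d3⟩ := sgV d' (e' ▸ w.comm xK h.sN (mem_cent1.1 b)) c2.symm
  have e2 := sgn_res F.rng (F.nrm xK b).2 (e' ▸ d2) (e' ▸ d3)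
  rw [x2, s0.alt, sign_swap d.ab] at e1
  rw [e2, d1, one_mul, ← neg_neg (sign (ν x)), ← neg_one_mul (sign (ν x)), ← e1]

theorem Sk.x1 (h : Sk β n t K ρ s L μ) (i : Iv y) (z : y ∈ Zt t K) (ne : y ≠ t) :
    ∃ x, Iv x ∧ x ∈ 𝐂₁ t ∧ x * y * x⁻¹ = t * y ∧ IsConj t x ∧ sign (ρ x) = -1 :=
  let ⟨_, _, _, k, c⟩ := h.adj1 i z; k.x0 i c ne

theorem Sk.lam (h : Sk β n t K ρ s L μ) (i : Iv y) (z : y ∈ Zt t K) (ne : y ≠ t) (a : g ∈ 𝐂₁ t) (b : g ∈ 𝐂₁ y) :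
    sign (ρ g) = 1 := (Int.units_eq_one_or _).resolve_right fun o => by
  have w := h.pt.vw
  obtain ⟨x, -, x1, x2, -, x3⟩ := h.x1 i z ne
  have c := mul_mem x1 a
  have N := fun x => h.cx.nrm h.pt (g := x)
  obtain ⟨l, hl, l1, l2, l3⟩ := lift' w (σ := ρ (x * g)) (by rw [w.mul (N x x1) (N g a), map_mul, x3, o]; simp)
    (okt h.pt) (.cz w i.piElt z.2) (cs z.1)
  have c' := mul_mem (inv_mem l1) c
  have e : l⁻¹ * (x * g) * y * (l⁻¹ * (x * g))⁻¹ = t * y := by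
    rw [← cc (cent1_mul_of (inv_mem l1) (inv_mem l2)), ← x2]; conv_rhs => rw [← cc b]
    group
  have := nc4 (h.fp i z ne) (h.syl i z ne) inf_le_left ⟨⟨c', (w.ker (N _ c')).1 (by
    rw [w.mul (inv_mem (w.nK hl)) (N _ c), w.inv (w.nK hl), l3, inv_mul_cancel])⟩, nv (h.fp i z ne) c' e⟩
  rw [cc (cent_le_cent1 (right_mem_V4 t y) this)] at e
  exact h.pt.iv.ne_one (by simpa using e)

end Sa

end CF.Ua
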