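import Cfsg.Agent.Ua.Sb1

/-! The standard configuration: the centralizer of the product. -/

set_option autoImplicit false
set_option linter.unusedSectionVars false

namespace CF.Ua

open Subgroup Cfsg CF.BG CF.Sig CF.Ab2 CF.Recog Equiv Equiv.Perm
open CF.GW hiding DT DC
open CF.Sol2A (ι PP Dn TB WF IC cc cs pc_sw)
open CF.StA (dt D4 DT VV)
open CF.AF (sc th)
open scoped commutatorElement

local notation "Alt" => alternatingGroup

universe u
variable {X : Type u} [Group X] [Finite X] {n m : ℕ}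
  {a b c d e g l r s t v w x y : X} {A G H I J K L M P Q R U W Y : Subgroup X} {β : X → X → ℂˣ}
  {ρ μ α η : X → Perm (Fin n)} {ν : X → Perm (Fin m)} {j : Fin m ↪ Fin n} {σ τ γ δ : Perm (Fin n)}
  {p q p' q' : Fin n} {D : Set X} {Kf : X → Subgroup X} {ρf : X → X → Perm (Fin n)}

namespace Gl
open Sa

section
variable (h : SD β n D Kf ρf) (ib : Iv b) (nb : b ∉ D) (k : Lm D b t)
include h k

theorem lcj (hg : g ∈ 𝐂₁ b) : Lm D b (g * t * g⁻¹) :=
  ⟨h.cl k.d g, cc hg ▸ cjc k.c g, by simpa only [← conj_mul, cc hg] using h.cl k.d' g⟩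

theorem tb : t * b ∈ 𝐂₁ t := mul_mem (self_mem_cent1 t) (cs k.c)

include ib nb

theorem pr : t * b ∈ Kf t ∧ sc (ρf t (t * b)) = 4 := by
  rcases h.cls k.d k.d' (tb h k) with e | e | e
  · exact absurd (h.zD k.d ⟨cs k.c, (mul_mem_cancel_left (mem_inf.1 (tz h k.d)).2).1 e⟩ ib).1 nb
  · exact e
  · exact absurd (h.t1 k.d (cs k.c) ib (vm h k.d (cs k.c) ▸ e)) nb

theorem dT : DT (ρf t b) := ⟨(vw h k.d).sq (nr h k.d (cs k.c)) ib.sq, vm h k.d (cs k.c) ▸ (pr h ib nb k).2⟩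

theorem lst (k' : Lm D b y) (c : y ∈ 𝐂₁ t) : y = t ∨ y = t * b ∨ sc (ρf t y) = 2 ∧ sc (ρf t y * ρf t b) = 2 := by
  have v := vw h k.d
  have d := dT h ib nb k
  have tK := (pr h ib nb k).1
  have c' := mul_mem c (cs k.c)
  have z := (mem_inf.1 (tz h k.d)).2
  have m := mu h k.d c (cs k.c)
  have s : sign (ρf t (y * b)) = sign (ρf t y) := by rw [m, map_mul, d.alt, mul_one]
  have e : ∀ {x}, x ∈ Cz (Kf t) ∨ x ∈ Kf t ∧ sc (ρf t x) = 4 → sign (ρf t x) = 1 := fun a =>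
    a.elim (fun a => by rw [v.cz a, map_one]) fun a => v.sgn a.1
  have it := iv h k.d
  rcases or_assoc.2 (h.cls k.d k'.d c) with a | a <;> rcases or_assoc.2 (h.cls k.d k'.d' c') with a' | a'
  · rcases a with a | a <;> rcases a' with a' | a'
    · exact absurd (v.cz ((mul_mem_cancel_left a).1 a')) d.ne_one
    · have := mul_mem a'.1 tK
      rw [mem_cent1.1 k.c, mul_assoc, ← mul_assoc b, ib.sq, one_mul] at this
      exact .inl (by
        rw [← mul_inv_eq_one, it.inv_eq]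
        exact kz h k.d this ((iv h k'.d).piElt.mul it.piElt (mem_cent1.1 c)) (mul_mem a z))
    · have := mul_mem z a'
      rw [← mul_assoc, ← mem_cent1.1 c, mul_assoc] at this
      exact .inr (.inl (by
        rw [← mul_inv_eq_one, (iv h k.d').inv_eq]
        exact kz h k.d (mul_mem a.1 tK)
          ((iv h k'.d).piElt.mul (iv h k.d').piElt (mem_cent1.1 (cent1_mul_of c k'.c))) this))
    · exact absurd ((mul_mem_cancel_right ((mul_mem_cancel_left a.1).1 a'.1)).1 tK) (nK h k.d)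
  · exact absurd ((e a).symm.trans (s.symm.trans (sg2 a'))) (by decide)
  · exact absurd ((e a').symm.trans (s.trans (sg2 a))) (by decide)
  · exact .inr (.inr ⟨a, m ▸ a'⟩)

theorem two (cx : x ∈ 𝐂₁ t) (cy : y ∈ 𝐂₁ t) (a : sc (ρf t x) = 2 ∧ sc (ρf t x * ρf t b) = 2)
    (a' : sc (ρf t y) = 2 ∧ sc (ρf t y * ρf t b) = 2) : x * y ∈ Zt t (Kf t) ∨ x * y * b ∈ Zt t (Kf t) :=
  (tp (dT h ib nb k) a.1 a.2 a'.1 a'.2).imp (fun e => zt h k.d (mul_mem cx cy) (mu h k.d cx cy ▸ e)) fun e =>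
    zt h k.d (mul_mem (mul_mem cx cy) (cs k.c)) (by rw [mu h k.d (mul_mem cx cy) (cs k.c), mu h k.d cx cy, e])

omit nb in
theorem l1 (i : Iv x) (c : x ∈ 𝐂₁ t) (cb : x ∈ 𝐂₁ b) (a : sc (ρf t x) = 2 ∧ sc (ρf t x * ρf t b) = 2) : Lm D b x := by
  rw [← mu h k.d c (cs k.c)] at a
  exact ⟨h.t1 k.d c i a.1, cb, h.t1 k.d (mul_mem c (cs k.c))
    (ivd (vw h k.d) (sq2 i.sq ib.sq cb) (a.2.trans_ne (by decide))) a.2⟩

theorem cmm (k' : Lm D b x) (e : E2 (x * t)) : x ∈ 𝐂₁ t := by_contra fun nc => by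
  have it := iv h k.d
  obtain ⟨c, ⟨m, hm, a⟩, c1, c2, -⟩ := Sol2A.dh (iv h k'.d) it k'.c k.c e nc
  have kc : Lm D b c := a.elim (· ▸ lcj h k' hm) (· ▸ lcj h k hm)
  have ic := iv h kc.d
  have nc : c ∉ 𝐂₁ t := fun a => c1 (cc a)
  have q : c * (c * t * c⁻¹) * c⁻¹ = t := by rw [ic.inv_eq, ← mul_assoc, ← mul_assoc, ic.sq, one_mul, mul_assoc, ic.sq, mul_one]
  rcases lst h ib nb k (lcj h k kc.c) c2 with a | a | a
  · exact c1 a
  · obtain ⟨e, eD, e1, d1, s1, d2, s2, f⟩ := ee h k.d (pr h ib nb k).1 (iv h k.d') (pr h ib nb k).2 ic.sq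
      (.inr ⟨a, a ▸ q⟩)
    have v := vw h eD
    have N := nr h eD (cs e1)
    have := sw8 f (by rw [← v.conj N (v.nK d1), a]) (by rw [← v.conj N (v.nK s1), ← a, q])
    have := d2.2; have := s2.2
    rcases h.cls eD kc.d (cs e1) with a | a | a
    · have := AF.sc_zero.2 (v.cz a); unfold sc at *; omega
    all_goals unfold sc at *; omega
  have f := FP.mk' it (it.conj c) c2 c1
  have kz := l1 h ib k f.iv (mul_mem (self_mem_cent1 t) c2) (mul_mem k.c (lcj h k kc.c).c) (by rwa [vm h k.d c2])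
  have cz : c ∈ 𝐂₁ (t * (c * t * c⁻¹)) := mem_cent1.2 (mul_inv_eq_iff_eq_mul.1 (by rw [← conj_mul, q, f.comm]))
  have tz := cs (mul_mem (self_mem_cent1 t) c2)
  have s : c * t * (c * t) = t * (c * t * c⁻¹) := by rw [f.comm, ic.inv_eq, mul_assoc (c * t)]
  have e2 : E2 (c * t) := Sol2A.e2_of (j := 2) (by
    rw [show (c * t) ^ 2 ^ 2 = c * t * (c * t) * (c * t * (c * t)) by simp [pow_succ, mul_assoc], s, f.iv.sq])
  rcases lst h ib nb kz kc cz with a1 | a1 | a1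
  · exact nc (a1 ▸ cs tz)
  · exact nc (a1 ▸ mul_mem (cs tz) (cs k.c))
  rcases lst h ib nb kz k tz with a2 | a2 | a2
  · exact nc (a2 ▸ cz)
  · exact nc (a2 ▸ cent1_mul_of cz kc.c)
  have cb := mul_mem kc.c k.c
  refine f.iv.ne_one (s ▸ (two h ib nb kz cz tz a1 a2).elim (fun a => z2 h kz.d a e2) fun a => ?_)
  have := z2 h kz.d a (e2.mul ib.piElt (mem_cent1.1 cb))
  rwa [mul_assoc, ← mul_assoc b, ← mem_cent1.1 cb, mul_assoc _ b, ib.sq, mul_one] at this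

/-- 2-elements of a normal subgroup whose involutions are conjugate into `B` -/
theorem sq1 (nM : M ⊴ 𝐂₁ b) (hM : ∀ e ∈ M, Iv e → e = b ∨ Lm D b e) (hg : g ∈ M) (c : g ∈ 𝐂₁ t) (e : E2 g)
    (kx : x ∈ M) (cx : x ∈ 𝐂₁ t) (a : sc (ρf t x) = 2) (e' : E2 (g * x)) : g * g = 1 ∨ g * x * (g * x) = 1 := by
  obtain ⟨tK, ty⟩ := pr h ib nb k
  obtain ⟨m, I, ν, j, j', F, -, p⟩ := fxx h k.d tK (iv h k.d') ty
  have v := vw h k.d
  have l : I ≤ 𝐂₁ b := fun u hu => by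
    have := cent1_mul_of (p.le hu).1 (p.le hu).2
    rwa [← mul_assoc, (iv h k.d).sq, one_mul] at this
  have o : M ⊓ I ≤ 𝒪 I := le_O (nM.inf_right l) (GW.odd_iff_pi.1 (by_contra fun o => by
    obtain ⟨e, he, i⟩ := exists_iv o
    have eK := F.le he.2
    rcases hM e he.1 i with rfl | a
    · exact nK h k.d ((mul_mem_cancel_right eK).1 tK)
    rcases lst h ib nb k a (KC h k.d eK) with rfl | rfl | a
    · exact nK h k.d eK
    · exact mt AF.sc_zero.2 (ty.trans_ne (by decide)) (Equiv.ext fun p => by_contra fun a => a (F.fix he.2 a))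
    · exact absurd ((v.sgn eK).symm.trans (sg2 a.1)) (by decide)))
  obtain ⟨p, q, p', q', d, ed⟩ := (dT h ib nb k).ex'
  have key : ∀ g ∈ M, g ∈ 𝐂₁ t → E2 g → sign (ρf t g) = 1 → g * g = 1 := fun g hg c e s => by
    have c' := cent1_mul_of c (nM.le hg)
    have N := (F.nrm (nr h k.d c) c').1
    have f := (F.cz (nr h k.d c) c').1 (mem_centMod.2 ⟨norm_O _ _ N, fun u hu =>
      o ⟨Sol2A.cm_inv (Sol2A.cm_mem (nM.norm (l hu)) hg), Sol2A.cm_mem N hu⟩⟩)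
    rw [vm h k.d (cs k.c), ed] at f
    obtain a | ⟨a, -⟩ := d8' d (ed ▸ v.comm (nr h k.d c) (nr h k.d (cs k.c)) (mem_cent1.1 (nM.le hg))) f
    swap; · exact absurd (a.symm.trans s) (by decide)
    exact ev2 h k.d c e s ((d.mem_VV'.1 a).elim (fun a => by rw [a, one_mul]) fun a => a.1.1)
  exact (Int.units_eq_one_or _).imp (key g hg c e) fun s => key _ (mul_mem hg kx) (mul_mem c cx) e' (by
    rw [mu h k.d c cx, map_mul, s, sg2 a]; simp)

end

end Gl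

open Sa Gl in
theorem SD.gl (h : SD β n D Kf ρf) (hd : d ∈ D) (hs : s ∈ Kf d) (i : Iv s) (ty : sc (ρf d s) = 4) :
    d * s ∉ D ∧ ∃ B, d ∈ B ∧ s ∈ B ∧ P2 B ∧ Abel B ∧ ♯B = 8 ∧ B ⊔ Oc 2 (d * s) ⊴ 𝐂₁ (d * s) ∧
      ∀ x ∈ B, x = 1 ∨ x = d * s ∨ x ∈ D := by
  have nb := nD h hd hs i ty
  have id := iv h hd
  have sc' := KC h hd hs
  have f := FP.mk' id i sc' fun e => nK h hd (e ▸ hs)
  have ib := f.iv
  have k : Lm D (d * s) d := ⟨hd, cs (mul_mem (self_mem_cent1 d) sc'), f.mul_mul.symm ▸ (h.t2 hd hs i ty).1⟩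
  obtain ⟨x, x1, x2, ix, x3, x4⟩ := exx h hd hs i ty
  have xV : x ∈ 𝐂 (V4 d s) := cent_V4 d s ▸ ⟨x1, x2⟩
  have od : ∀ u ∈ V4 d s, sc (ρf d (x * u)) = 2 := fun u hu => by
    rcases f.mem.1 hu with rfl | rfl | rfl | rfl
    exacts [by rwa [mul_one], by rwa [mem_cent1.1 x1, vm h hd x1], x4,
      by rwa [← mul_assoc, mem_cent1.1 x1, mul_assoc, vm h hd (mul_mem x1 sc')]]
  have nx : x ∉ V4 d s := fun a => by
    have := od x a
    rw [ix.sq, (vw h hd).one, AF.sc_zero.2 rfl] at this; omega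
  obtain ⟨B, hB⟩ : ∃ B, B = V4 d s ⊔ zpowers x := ⟨_, rfl⟩
  have lV : V4 d s ≤ B := hB ▸ le_sup_left
  have xB : x ∈ B := hB ▸ mem_sup_right (mem_zpowers x)
  have dB := lV (left_mem_V4 d s)
  have bB := mul_mem dB (lV (right_mem_V4 d s))
  have ab : Abel B := hB ▸ f.abel.sup (abel_zpowers x) (cent_symm (zpowers_le.2 xV))
  have p2 : P2 B := hB ▸ f.pi.sup ix.piGrp (.inr (zp_le_norm (cent_le_norm _ xV)))
  have c8 : ♯B = 8 := by rw [hB, Invol.card_sup_zpowers (cent_le_norm _ xV) (ix.sq ▸ one_mem _) nx, f.card]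
  have Bc : ∀ {u}, u ∈ B → B ≤ 𝐂₁ u := fun hu => le_cent1_iff.2 (ab hu)
  have mB : ∀ u ∈ B, u * u = 1 ∧ (u = 1 ∨ u = d * s ∨ u ∈ D) := fun u hu => by
    rcases (Invol.mem_sup_zpowers_iff (cent_le_norm _ xV) (ix.sq ▸ one_mem _)).1 (hB ▸ hu) with a | a
    · refine ⟨f.sq a, ?_⟩
      rcases f.mem.1 a with rfl | rfl | rfl | rfl
      exacts [.inl rfl, .inr (.inr hd), .inr (.inr (f.mul_mul ▸ k.d')), .inr (.inl rfl)]
    have e : u = x * (u * x⁻¹) := by rw [ab.mul_comm hu (inv_mem xB), mul_inv_cancel_left]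
    have uu : u * u = 1 := e ▸ sq2 ix.sq (f.sq a) (Bc (lV a) xB)
    have := od _ a
    rw [← e] at this
    exact ⟨uu, .inr (.inr (h.t1 hd (Bc dB hu) (ivd (vw h hd) uu (this.trans_ne (by decide))) this))⟩
  have lm : ∀ u ∈ B, u ≠ 1 → u ≠ d * s → Lm D (d * s) u := fun u hu u1 u2 =>
    ⟨((mB u hu).2.resolve_left u1).resolve_left u2, Bc bB hu, ((mB _ (mul_mem hu bB)).2.resolve_left fun e =>
      u2 (by rw [← ib.inv_eq]; exact eq_inv_of_mul_eq_one_left e)).resolve_left fun e => u1 (by simpa using e)⟩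
  have kx := lm x xB ix.ne_one fun e => nx (e ▸ f.mem.2 (by simp))
  have ox : sc (ρf d x) = 2 ∧ sc (ρf d x * ρf d (d * s)) = 2 := ⟨x3, mu h hd x1 (cs k.c) ▸ od _ (f.mem.2 (by simp))⟩
  obtain ⟨S, sS, lS⟩ := exists_syl_le (Bc bB) p2
  have LS : ∀ y ∈ S, Lm D (d * s) y → y ∈ B := fun y hy ky => by
    have c1 := cmm h ib nb k ky (sS.pi.elt (mul_mem hy (lS dB)))
    have c2 := cmm h ib nb kx ky (sS.pi.elt (mul_mem hy (lS xB)))
    have q : ∀ w ∈ S, w ∈ Zt d (Kf d) → x ∈ 𝐂₁ w → w ∈ B := fun w hw z c => by_contra fun n =>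
      absurd ((h.lam hd (y := w) (.mk' (fun e => n (e ▸ one_mem _)) (z2 h hd z (sS.pi.elt hw))) z (fun e => n (e ▸ dB))
        x1 c).symm.trans (sg2 x3)) (by decide)
    have c3 := cent1_mul_of (self_mem_cent1 x) (cs c2)
    rcases lst h ib nb k ky c1 with rfl | rfl | a
    exacts [dB, mul_mem dB bB, (mul_mem_cancel_left xB).1 ((two h ib nb k x1 c1 ox a).elim
      (fun a => q _ (mul_mem (lS xB) hy) a c3) fun a => (mul_mem_cancel_right bB).1
        (q _ (mul_mem (mul_mem (lS xB) hy) (lS bB)) a (cent1_mul_of c3 kx.c)))]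
  have scl : ∀ a ∈ B, ∀ g ∈ 𝐂₁ (d * s), g * a * g⁻¹ ∈ S → g * a * g⁻¹ ∈ B := fun a ha g hg q => by
    obtain rfl | a1 := eq_or_ne a 1
    · simp
    obtain rfl | a2 := eq_or_ne a (d * s)
    · rwa [cc hg]
    exact LS _ q (lcj h (lm a ha a1 a2) hg)
  obtain ⟨M, nM, lM, hM⟩ := AF.gold sS lS ab scl
  have hM' : ∀ e ∈ M, Iv e → e = d * s ∨ Lm D (d * s) e := fun e he ie => by
    obtain ⟨g, hg, l⟩ := sS.syl_cj_le (zpowers_le.2 (nM.le he)) ie.piGrp
    have := hM _ (l (conj_mem_cj.2 (mem_zpowers e))) (nM.conj_mem hg he) (ie.conj g).sq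
    refine (em _).imp_right fun ne => ?_
    simpa [mul_assoc] using lcj h (lm _ this (ie.conj g).ne_one fun a => ne (by rw [← cc hg] at a; simpa using a))
      (inv_mem hg)
  have ra : S ⊓ M ≤ B := of_sq (sS.pi.le inf_le_left) fun g hg gg => by
    have gN : ∀ a ∈ B, g * a * g⁻¹ ∈ B := fun a ha =>
      scl a ha g (sS.le hg.1) (mul_mem (mul_mem hg.1 (lS ha)) (inv_mem hg.1))
    obtain ⟨u, hu, u1, u2, c⟩ : ∃ u ∈ B, u ≠ 1 ∧ u ≠ d * s ∧ g ∈ 𝐂₁ u := by_contra fun q => by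
      push Not at q
      have k : ∀ u ∈ B, u ≠ 1 → u ≠ d * s → g * u * g⁻¹ = u * (d * s) := fun u hu u1 u2 => by
        have m := gN u hu
        rw [← mul_left_cancel_iff (a := u), ← mul_assoc u u, (mB u hu).1, one_mul]
        by_contra k
        refine q _ (mul_mem hu m) (fun k' => q u hu u1 u2 (mem_cent1.2 ?_)) k (mem_cent1.2 ?_)
        · rw [← (mB u hu).1, mul_right_inj, mul_inv_eq_iff_eq_mul] at k'; exact k'
        · rw [← mul_inv_eq_iff_eq_mul, show g * (u * (g * u * g⁻¹)) * g⁻¹ = g * u * g⁻¹ * (g * g * u * (g * g)⁻¹) by group,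
            cc (Bc hu gg), ab.mul_comm hu m]
      have n : ∀ u ∈ V4 d s, x * d ≠ u := fun u hu e => nx ((mul_mem_cancel_right (left_mem_V4 d s)).1 (e ▸ hu))
      have k3 := k _ (mul_mem xB dB) (n 1 (one_mem _)) (n _ (f.mem.2 (by simp)))
      rw [← conj_mul, k x xB ix.ne_one (fun e => nb (e ▸ kx.d)), k d dB id.ne_one (fun e => nb (e ▸ hd)), f.mul_mul,
        mul_assoc x, mul_assoc d, i.sq, mul_one] at k3
      exact ib.ne_one (by simpa using k3)
    have ku := lm u hu u1 u2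
    have fu : FP u (d * s) := .mk' (iv h ku.d) ib (cs ku.c) u2.symm
    obtain ⟨w, hw, nw⟩ : ∃ w ∈ B, w ∉ V4 u (d * s) := by_contra fun k => by
      push Not at k
      have := card_le_of_le (show B ≤ _ from k); rw [fu.card] at this; omega
    have a := ((lst h ib nb ku (lm w hw (fun e => nw (e ▸ one_mem _)) fun e => nw (e ▸ right_mem_V4 _ _))
      (Bc hu hw)).resolve_left fun e => nw (e ▸ left_mem_V4 _ _)).resolve_left fun e => nw (fu.mem.2 (by simp [e]))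
    have gw := mul_mem hg.1 (lS hw)
    exact (sq1 h ib nb ku nM hM' hg.2 c (sS.pi.elt hg.1) (lM hw) (Bc hu hw) a.1 (sS.pi.elt gw)).elim (hM g hg.1 hg.2)
      fun e => (mul_mem_cancel_right hw).1 (hM _ gw (mul_mem hg.2 (lM hw)) e)
  have sA : Syl 2 B M := by
    have := sS.inf_normal nM
    rwa [le_antisymm ra (le_inf lS lM)] at this
  have bK : d * s ∉ ⁅M, M⁆ := fun q => by
    have := AF.syl_der_cent sA ⟨⟨bB, q⟩, le_cent1_iff.1 nM.le⟩
    rw [der_eq_bot.2 ab, mem_bot] at this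
    exact ib.ne_one this
  have c : M ⊓ 𝐍 B ≤ 𝐂 B := fun g hg a ha => by_contra fun z => by
    have q1 : ⁅g, a⁆ ∈ ⁅M, M⁆ := commutator_mem_commutator hg.1 (lM ha)
    have L := lm ⁅g, a⁆ (mul_mem (conj_mem_of_norm hg.2 ha) (inv_mem ha))
      (fun q => z (commutatorElement_eq_one_iff_mul_comm.1 q).symm) fun q => bK (q ▸ q1)
    obtain ⟨c, c1, c2⟩ := swp h L.d (pr h ib nb L).1 (iv h L.d') (pr h ib nb L).2
    have : c ∈ 𝐂₁ (d * s) := mem_cent1.2 (mul_inv_eq_iff_eq_mul.1 (by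
      rw [← conj_mul, c1, mul_assoc, mul_eq_left] at c2
      rw [eq_inv_of_mul_eq_one_right c2, ib.inv_eq]))
    exact bK ((mul_mem_cancel_left q1).1 (c1 ▸ nM.der.conj_mem this q1))
  have e : B ⊔ Oc 2 (d * s) = M ⊔ Oc 2 (d * s) := le_antisymm (sup_le_sup_right lM _)
    (sup_le ((AF.burn sA c).trans (sup_le_sup_left (O_le_O_of_normal nM _) _)) le_sup_right)
  exact ⟨nb, B, dB, lV (right_mem_V4 d s), p2, ab, c8, e ▸ nM.sup (O_normal _ _), fun u hu => (mB u hu).2⟩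

end CF.Ua
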