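import Cfsg.Agent.Ua.Sa1
import Cfsg.Agent.Ua.Xb

/-! The standard configuration: products of commuting involutions of the class. -/

set_option autoImplicit false
set_option linter.unusedSectionVars false

namespace CF.Ua

open Subgroup Cfsg CF.BG CF.Sig CF.Ab2 CF.Recog Equiv Equiv.Perm
open CF.GW hiding DT DC
open CF.Sol2A (ι PP Dn TB WF IC cc cs pc_sw)
open CF.StA (dt D4 DT VV)
open CF.AF (sc th)
open scoped commutatorElement

local notation "Alt" => alternatingGroup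

universe u
variable {X : Type u} [Group X] [Finite X] {n m : ℕ}
  {a b c d e g l r s t v w x y : X} {A G H I J K L M P Q R U W Y : Subgroup X} {β : X → X → ℂˣ}
  {ρ μ α η : X → Perm (Fin n)} {ν : X → Perm (Fin m)} {j : Fin m ↪ Fin n} {σ τ γ δ : Perm (Fin n)}
  {p q p' q' : Fin n} {D : Set X} {Kf : X → Subgroup X} {ρf : X → X → Perm (Fin n)}

namespace Gl
open Sa

theorem tp1 (t : DT τ) (a : sc δ = 2) (b : sc (δ * τ) = 2) :
    ∃ p q p' q', D4 p q p' q' ∧ τ = dt p q p' q' ∧ δ = swap p q := by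
  obtain ⟨p, q, n, rfl⟩ := card_support_eq_two.1 a
  obtain ⟨p', q', n', e⟩ := card_support_eq_two.1 b
  obtain rfl : τ = dt p q p' q' := by rw [dt, ← e, ← mul_assoc, swap_mul_self, one_mul]
  have : (dt p q p' q').support ⊆ [p, q, p', q'].toFinset := fun x hx => by_contra fun k => by
    simp only [List.mem_toFinset, List.mem_cons, List.not_mem_nil, or_false, not_or] at k
    exact mem_support.1 hx (StA.dt_fix k.1 k.2.1 k.2.2.1 k.2.2.2)
  have : [p, q, p', q'].Nodup := (Multiset.toFinset_card_eq_card_iff_nodup (m := .ofList [p, q, p', q'])).1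
    ((List.toFinset_card_le [p, q, p', q']).antisymm (t.2.ge.trans (Finset.card_le_card this)))
  simp only [List.nodup_cons, List.mem_cons, List.not_mem_nil, or_false, not_or] at this
  exact ⟨p, q, p', q', ⟨n, this.1.2.1, this.1.2.2, this.2.1.1, this.2.1.2, n'⟩, rfl, rfl⟩

theorem tp (t : DT τ) (a : sc δ = 2) (b : sc (δ * τ) = 2) (a' : sc γ = 2) (b' : sc (γ * τ) = 2) :
    δ * γ = 1 ∨ δ * γ * τ = 1 := by
  obtain ⟨p, q, p', q', d, rfl, rfl⟩ := tp1 t a b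
  obtain ⟨x, y, z, w, f, e, rfl⟩ := tp1 t a' b'
  have h1 := f.ap1; have h2 := f.ab
  rw [← e] at h1
  obtain ⟨_, _, _, _, _, _⟩ := d
  by_cases k : x = p ∨ x = q <;> [left; right] <;> ext u <;>
    simp only [dt, mul_apply, swap_apply_def, one_apply] at h1 ⊢ <;> grind

theorem sg2 (a : sc δ = 2) : sign δ = -1 := (card_support_eq_two.1 a).sign_eq

theorem sc_mul (σ τ : Perm (Fin n)) : sc (σ * τ) + (σ.support ∩ τ.support).card ≤ sc σ + sc τ := by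
  exact (Nat.add_le_add_right (Finset.card_le_card (support_mul_le σ τ)) _).trans_eq
    (Finset.card_union_add_card_inter _ _)

theorem sw8 (d : Disjoint σ τ) (a : γ * σ * γ⁻¹ = τ) (b : γ * τ * γ⁻¹ = σ) : sc σ + sc τ ≤ sc γ := by
  have k : ∀ {σ τ : Perm (Fin n)}, Disjoint σ τ → γ * σ * γ⁻¹ = τ → σ.support ⊆ γ.support := fun d a p hp => by
    have := Equiv.congr_fun (mul_inv_eq_iff_eq_mul.1 a) p
    have := d p
    simp only [mem_support, mul_apply] at *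
    intro e
    have := γ.injective.ne hp
    grind
  rw [← Finset.card_union_of_disjoint d.disjoint_support]
  exact Finset.card_le_card (Finset.union_subset (k d a) (k d.symm b))

theorem exs (s : DT σ) (t : DT τ) (d : Disjoint σ τ) : ∃ γ, sign γ = 1 ∧ γ * σ * γ⁻¹ = τ ∧ γ * τ * γ⁻¹ = σ := by
  obtain ⟨a, b, c, e, f, rfl⟩ := s.ex'
  obtain ⟨a', b', c', e', f', rfl⟩ := t.ex'
  have k := d.disjoint_support
  rw [f.supp, f'.supp] at k
  simp only [Finset.disjoint_insert_left, Finset.disjoint_singleton_left, Finset.mem_insert, Finset.mem_singleton,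
    not_or] at k
  obtain ⟨_, _, _, _, _, _⟩ := f
  obtain ⟨_, _, _, _, _, _⟩ := f'
  refine ⟨dt a a' b b' * dt c c' e e', by simp [k], ?_, ?_⟩ <;> rw [StA.conj_dt] <;> congr 1 <;>
    simp only [dt, mul_apply, swap_apply_def] <;> grind

theorem t2c' (n4 : 4 ≤ n) (tt : τ * τ = 1) : ∃ δ, DT δ ∧ Commute δ τ := by
  obtain rfl | t1 := eq_or_ne τ 1
  · obtain ⟨δ, a, -⟩ := off' (τ := (1 : Perm (Fin n))) (by rw [AF.sc_zero.2 rfl]; omega)
    exact ⟨δ, a, .one_right _⟩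
  exact (dd n4 tt t1).imp fun _ a => ⟨a.1, a.2.1⟩

theorem fxu {m' : ℕ} {ν' : X → Perm (Fin m')} {j' : Fin m' ↪ Fin n} (F : Fx n K ρ s m I ν j)
    (F' : Fx n K ρ s m' J ν' j') : I ≤ J :=
  le_two F.vI.pc fun _ hx e => F'.two (F.le hx) (F.cI hx) e fun _ => F.fix hx

theorem ivd (v : Vw n K ρ) (aa : a * a = 1) (t : sc (ρ a) ≠ 0) : Iv a :=
  .mk' (fun e => t (by rw [e, v.one, AF.sc_zero.2 rfl])) aa

theorem sq2 (aa : a * a = 1) (bb : b * b = 1) (c : a ∈ 𝐂₁ b) : a * b * (a * b) = 1 := by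
  rw [mul_assoc, ← mul_assoc b, ← mem_cent1.1 c, mul_assoc a, bb, mul_one, aa]

theorem of_sq (p : P2 R) (k : ∀ g ∈ R, g * g ∈ A → g ∈ A) : R ≤ A := fun g hg => by
  obtain ⟨i, e⟩ := Sol2A.e2_pow (p.elt hg)
  have : ∀ i, g ^ 2 ^ i ∈ A → g ∈ A := fun i => by
    induction i with
    | zero => simp
    | succ i ih => exact fun a => ih (k _ (pow_mem hg _) (by rwa [← pow_add, ← two_mul, ← pow_succ']))
  exact this i (e ▸ one_mem _)

/-- members of the class whose product with `b` is in the class -/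
structure Lm (D : Set X) (b x : X) : Prop where
  d : x ∈ D
  c : x ∈ 𝐂₁ b
  d' : x * b ∈ D

section
variable (h : SD β n D Kf ρf) (hd : d ∈ D)
include h hd

theorem vw : Vw n (Kf d) (ρf d) := (h.mp hd).vw
theorem iv : Iv d := (h.mp hd).iv
theorem nr (hg : g ∈ 𝐂₁ d) : g ∈ 𝐍 (Kf d) := h.toCs.nrm hd hg
theorem tz : d ∈ Zt d (Kf d) := (h.mp hd).tz
theorem KC (hg : g ∈ Kf d) : g ∈ 𝐂₁ d := (h.mp hd).pc.le hg
theorem ok : Ok (Kf d) (ρf d) σ d := .cz (vw h hd) (iv h hd).piElt (tz h hd).2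

theorem mu (hg : g ∈ 𝐂₁ d) (hx : x ∈ 𝐂₁ d) : ρf d (g * x) = ρf d g * ρf d x := (vw h hd).mul (nr h hd hg) (nr h hd hx)

theorem vm (hg : g ∈ 𝐂₁ d) : ρf d (d * g) = ρf d g := by
  rw [mu h hd (self_mem_cent1 d) hg, (vw h hd).cz (tz h hd).2, one_mul]

theorem kz (hl : l ∈ Kf d) (e : E2 l) (z : l ∈ Cz (Kf d)) : l = 1 := (vw h hd).inj2 hl e ((vw h hd).cz z)

theorem nK : d ∉ Kf d := fun a => (iv h hd).ne_one (kz h hd a (iv h hd).piElt (tz h hd).2)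

theorem zt (hg : g ∈ 𝐂₁ d) (e : ρf d g = 1) : g ∈ Zt d (Kf d) := ⟨hg, ((vw h hd).ker (nr h hd hg)).1 e⟩

theorem z2 (z : x ∈ Zt d (Kf d)) (e : E2 x) : x * x = 1 := by
  obtain ⟨y, i, a, ne⟩ := h.zV hd
  obtain ⟨g, -, l⟩ := (h.zS hd i a ne).1.syl_cj_le (zpowers_le.2 z) e.zpowers
  simpa only [conj_mul, conj_eq_one_iff] using (FP.mk' (iv h hd) i a.1 ne).sq (l (conj_mem_cj.2 (mem_zpowers x)))

theorem zs : Sol (Zt d (Kf d)) := by
  obtain ⟨y, i, a, ne⟩ := h.zV hd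
  have f := FP.mk' (iv h hd) i a.1 ne
  exact (f.pi.sol.sup (od_sol (O_pi _ _)) (f.V4_le.trans (O_normal _ _).norm)).mono (h.zS hd i a ne).2

theorem ev2 (hg : g ∈ 𝐂₁ d) (e : E2 g) (s : sign (ρf d g) = 1) (k : ρf d g * ρf d g = 1) : g * g = 1 := by
  obtain ⟨l, hl, -, l2, l3, l4⟩ := lift2 (vw h hd) s k (ok h hd) ⟨e, nr h hd hg, .refl _⟩ (cs hg)
  have := sq2 l3 (z2 h hd (zt h hd (mul_mem (KC h hd hl) hg) (by rw [mu h hd (KC h hd hl) hg, l4, k]))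
    ((e2 l3).mul e (mem_cent1.1 l2))) (cent1_mul_of (self_mem_cent1 l) l2)
  rwa [← mul_assoc l l, l3, one_mul] at this

variable (hs : s ∈ Kf d) (i : Iv s) (ty : sc (ρf d s) = 4)
include hs i ty

theorem nD : d * s ∉ D := fun a => by
  have c := KC h hd hs
  rcases h.cls hd a (mul_mem (self_mem_cent1 d) c) with e | e | e
  · have := (vw h hd).cz e
    rw [vm h hd c, ← AF.sc_zero] at this; omega
  · exact nK h hd ((mul_mem_cancel_right hs).1 e.1)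
  · rw [vm h hd c] at e; omega

theorem fxx : ∃ m I ν j j', Fx n (Kf d) (ρf d) s m I ν j ∧ Fx n (Kf s) (ρf s) d m I ν j' ∧ PC I (𝐂₁ d ⊓ 𝐂₁ s) := by
  have := h.n9
  obtain ⟨k, hk⟩ := h.odd
  have c := KC h hd hs
  have sD := (h.t2 hd hs i ty).1
  obtain ⟨I, ν, j, F, p⟩ := (vw h hd).fx (h.mp hd).pc i c (nr h hd c) (m := n - 4) (by omega) (by omega) (by omega)
  obtain ⟨j', F'⟩ := (vw h sD).fx_of h.odd (h.mp sD).pc (iv h hd) (cs c) (nr h sD (cs c)) (pc_sw p)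
    (fun l => p.not_sol ((zs h sD).mono (le_inf F.cI l))) F.vI
  exact ⟨_, I, ν, j, j', F, F', p⟩

theorem ee (cc : c * c = 1) (k : c = 1 ∨ c * d * c⁻¹ = s ∧ c * s * c⁻¹ = d) : ∃ e ∈ D, e ∈ 𝐂₁ c ∧ d ∈ Kf e ∧ s ∈ Kf e ∧
    DT (ρf e d) ∧ DT (ρf e s) ∧ Disjoint (ρf e d) (ρf e s) := by
  obtain ⟨m, I, ν, j, j', F, F', p⟩ := fxx h hd hs i ty
  have sD := (h.t2 hd hs i ty).1
  have cN : c ∈ 𝐍 I := k.elim (fun e => e ▸ one_mem _) fun k => by
    have p' := p.cj Nat.prime_two c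
    rw [cj_inf, cj_cent1, cj_cent1, k.1, k.2] at p'
    obtain ⟨_, F1⟩ := (vw h sD).fx_le h.odd (h.mp sD).pc (iv h hd) (cs (KC h hd hs)) p'
      (by rw [← k.1, h.toCs.cjK hd]; exact cj_mono c F.le) (F.vI.cj c)
    exact mem_norm_of_cj_le (fxu F1 F')
  obtain ⟨δ, t, a⟩ := t2c' (by have := F.vI.n5; omega) (F.vI.sq cN cc)
  obtain ⟨e, he, e1, -, e3, rfl⟩ := lift2 F.vI t.alt t.1 ⟨e2 cc, cN, a⟩ ⟨e2 cc, cN, a⟩ (self_mem_cent1 c)
  have ie := ivd F.vI e3 (t.2.trans_ne (by decide))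
  obtain ⟨eD, d1, d2, -⟩ := h.t2 hd (F.le he) ie ((F.sc_eq he).trans t.2)
  obtain ⟨-, s1, s2, -⟩ := h.t2 sD (F'.le he) ie ((F'.sc_eq he).trans t.2)
  have v := vw h eD
  refine ⟨e, eD, e1, d1, s1, ⟨v.sq (v.nK d1) (iv h hd).sq, d2⟩, ⟨v.sq (v.nK s1) i.sq, s2⟩, ?_⟩
  have b := mul_mem d1 s1
  have ib := (iv h hd).mul i (mem_cent1.1 (KC h hd hs)).symm fun e => nK h hd (e ▸ hs)
  have := AF.four_dvd (v.sq (v.nK b) ib.sq) (v.sgn b)
  have : sc (ρf e (d * s)) ≠ 4 := fun a => nD h hd hs i ty (h.t2 eD b ib a).1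
  have : sc (ρf e (d * s)) ≠ 0 := fun a => ib.ne_one (v.inj2 b ib.piElt (AF.sc_zero.1 a))
  have := sc_mul (ρf e d) (ρf e s)
  rw [← v.mul (v.nK d1) (v.nK s1)] at this
  exact disjoint_iff_disjoint_support.2 (Finset.disjoint_iff_inter_eq_empty.2 (Finset.card_eq_zero.1 (by omega)))

theorem swp : ∃ g, g * d * g⁻¹ = s ∧ g * s * g⁻¹ = d := by
  obtain ⟨e, eD, -, d1, s1, d2, s2, k⟩ := ee h hd hs i ty (one_mul 1) (.inl rfl)
  obtain ⟨γ, g1, g2, g3⟩ := exs d2 s2 k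
  have v := vw h eD
  have f := FP.mk' (iv h hd) i (KC h hd hs) fun e => nK h hd (e ▸ hs)
  have l : V4 d s ≤ Kf e := V4_le.2 ⟨d1, s1⟩
  obtain ⟨g, hg, a, -, rfl⟩ := v.liftN f.pi (piGrp_bot _) l bot_le g1 (fun x hx => by
    rcases f.mem.1 hx with rfl | rfl | rfl | rfl
    · exact ⟨1, hx, by simp [v.one]⟩
    · exact ⟨s, right_mem_V4 _ _, g2.symm⟩
    · exact ⟨d, left_mem_V4 _ _, g3.symm⟩
    · exact ⟨_, hx, by rw [v.mul (v.nK d1) (v.nK s1), ← conj_mul, g2, g3, k.commute.eq]⟩)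
    (fun x hx => by simp [mem_bot.1 hx, v.one]) (by simp)
  have J := fun x hx y hy => inj2 v (conj_mem_of_norm (v.nK hg) (l (x := x) hx)) (l (x := y) hy) f.pi
    (conj_mem_of_norm a hx) hy
  exact ⟨g, J d (left_mem_V4 _ _) s (right_mem_V4 _ _) (by rw [v.conj (v.nK hg) (v.nK d1), g2]),
    J s (right_mem_V4 _ _) d (left_mem_V4 _ _) (by rw [v.conj (v.nK hg) (v.nK s1), g3])⟩

theorem exx : ∃ x ∈ 𝐂₁ d, x ∈ 𝐂₁ s ∧ Iv x ∧ sc (ρf d x) = 2 ∧ sc (ρf d (x * s)) = 2 := by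
  have v := vw h hd
  obtain ⟨x, c, ix, e⟩ := h.ex1 hd
  have xN := nr h hd c
  obtain ⟨δ, t, a, b⟩ := dd (by have := h.n9; omega) (v.sq xN ix.sq) (fun a => by rw [a, AF.sc_zero.2 rfl] at e; omega)
  obtain ⟨l, hl, -, l1, l2, rfl⟩ := lift2 v t.alt t.1 (ok h hd) ⟨ix.piElt, xN, a⟩ (cs c)
  obtain ⟨g, hg, rfl⟩ := v.conjK (v.nK hl) l2 i.sq (mul_mem hl hs) (t.2.trans ty.symm)
  refine ⟨_, cc (KC h hd hg) ▸ cjc c g, cjc (cs l1) g, ix.conj g, by rw [v.conj (v.nK hg) xN, AF.sc_conj, e], ?_⟩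
  rw [conj_mul, v.conj (v.nK hg) (mul_mem xN (v.nK hl)), AF.sc_conj, v.mul xN (v.nK hl), b, e]

end

end Gl

end CF.Ua
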