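import Cfsg.Agent.Ua.Sb
import Cfsg.Agent.Ua.Z
import Cfsg.Agent.Ua.S0

/-! Alternating 2-components which are nonsplit in a central cover: the signalizer of the standard configuration. -/

set_option autoImplicit false
set_option linter.unusedSectionVars false

namespace CF.Ua

open Subgroup Cfsg CF.BG CF.Sig CF.Ab2 CF.Recog Equiv Equiv.Perm
open CF.GW hiding DT DC
open CF.Sol2A (ι PP Dn TB WF IC)
open CF.StA (dt D4 DT VV)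
open CF.AF (sc th Sb Se)
open CF.Kondo (Emb im)
open scoped commutatorElement

local notation "Alt" => alternatingGroup

universe u
variable {X E : Type u} [Group X] [Finite X] [Group E] [Finite E] {n m k N : ℕ}
  {a b c d e g l r s t v x y z : X} {A G H I J K L M P Q U W W' Y : Subgroup X} {β : X → X → ℂˣ}
  {ρ μ α η : X → Perm (Fin n)} {ν : X → Perm (Fin m)} {j : Fin m ↪ Fin n} {σ τ γ : Perm (Fin n)} {π : E →* X}
  {p q p' q' : Fin n} {D : Set X} {Kf : X → Subgroup X} {ρf : X → X → Perm (Fin n)}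

namespace Sc

variable (h : SD β n D Kf ρf)
include h

theorem iv (hd : d ∈ D) : Iv d := (h.mp hd).iv
theorem vw (hd : d ∈ D) : Vw n (Kf d) (ρf d) := (h.mp hd).vw
theorem pc (hd : d ∈ D) : PC (Kf d) (𝐂₁ d) := (h.mp hd).pc
theorem nrm (hd : d ∈ D) (c : e ∈ 𝐂₁ d) : e ∈ 𝐍 (Kf d) := h.toCs.nrm hd c

theorem nz (hd : d ∈ D) (pJ : PC J H) : ¬ J ≤ Zt d (Kf d) := fun l => by
  obtain ⟨y, i, z, ne⟩ := h.zV hd
  exact pJ.not_sol (((fpz (iv h hd) i z ne).pi.sol.sup (O_sol _) ((V4_le.2 ⟨self_mem_cent1 d, z.1⟩).trans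
    (O_normal _ _).norm)).mono (l.trans (h.zS hd i z ne).2))

theorem pcK (hd : d ∈ D) (pJ : PC J (𝐂₁ d)) : J = Kf d :=
  by_contra fun ne => nz h hd pJ (le_inf pJ.le (pc_ne (pc h hd) pJ ne))

theorem balA (he : e ∈ D) (i : Iv a) (c : a ∈ 𝐂₁ e) (k : sc (ρf e a) ≤ 4) : Oc 2 a ⊓ 𝐂₁ e ≤ Oc 2 e := by
  have l : Oc 2 a ⊓ 𝐂₁ e ≤ 𝒪 (𝐂₁ e ⊓ 𝐂₁ a) := fun x hx => inf_comm (𝐂₁ a) _ ▸ Sol2A.O_inf hx.1 hx.2
  refine bal i c l fun J pJ x hx => ?_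
  obtain ⟨nx, -, q⟩ := (vw h he).otriv h.odd (pc h he) i c (nrm h he c) (l hx)
  have := h.n9
  exact pcK h he pJ ▸ ((vw h he).ker nx).1 (q (by omega))

theorem sc4 (hd : d ∈ D) (he : e ∈ D) (c : e ∈ 𝐂₁ d) : sc (ρf d e) ≤ 4 := by
  rcases h.cls hd he c with q | q | q
  · rw [(vw h hd).cz q, AF.sc_zero.2 rfl]; omega
  · exact q.2.le
  · omega

theorem scz (hd : d ∈ D) (he : e ∈ D) (c : e ∈ 𝐂₁ d) (z : v ∈ Cz (Kf d)) : sc (ρf d (v * e)) ≤ 4 := by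
  rw [(vw h hd).mul (Cz_norm _ z) (nrm h hd c), (vw h hd).cz z, one_mul]; exact sc4 h hd he c

theorem cj_w (hd : d ∈ D) (g : X) : cj g (wz d (Kf d)) = wz (g * d * g⁻¹) (Kf (g * d * g⁻¹)) := by
  rw [cj_wz, h.toCs.cjK hd]

theorem cen_w (hd : d ∈ D) : 𝐂₁ d ≤ 𝐍 (wz d (Kf d)) := fun g hg => by
  rw [← cj_eq_self, cj_w h hd, conj_eq_of_comm (mem_cent1.1 hg)]

theorem wz_th (hd : d ∈ D) (i : Iv y) (z : y ∈ Zt d (Kf d)) (ne : y ≠ d) : wz d (Kf d) = th (V4 d y) := by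
  have f := fpz (iv h hd) i z ne
  obtain ⟨s, l⟩ := h.zS hd i z ne
  refine le_antisymm (iSup₂_le fun x hx => ?_) (AF.th_le fun u hu u1 => le_wz (f.iv_of_mem hu u1) (s.le hu))
  obtain ⟨g, hg, q⟩ := s.syl_cj_le (zpowers_le.2 hx.2) hx.1.piGrp
  have : g ∈ 𝐍 (th (V4 d y)) := (sup_le ((le_norm_self _).trans (norm_le_of_cj AF.cj_th _))
    (norm_of_le (AF.le_th (left_mem_V4 d y) f.l.ne_one))) (l hg)
  rw [← cj_of_norm (inv_mem this), ← cj_le_iff, cj_Oc]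
  exact AF.le_th (q (conj_mem_cj.2 (mem_zpowers x))) (hx.1.conj g).ne_one

/-- the involutions of a four-group of the kernel -/
theorem vz (hd : d ∈ D) (i : Iv y) (z : y ∈ Zt d (Kf d)) (ne : y ≠ d) (hv : v ∈ V4 d y) (v1 : v ≠ 1) :
    v ∈ D ∧ v ∈ Zt d (Kf d) ∧ V4 d y ≤ Cz (Kf v) := by
  have f := fpz (iv h hd) i z ne
  have zv := (h.zS hd i z ne).1.le hv
  obtain ⟨vD, q⟩ := h.zD hd zv (f.iv_of_mem hv v1)
  have := (h.mp vD).tz.2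
  refine ⟨vD, zv, V4_le.2 ⟨q, ?_⟩⟩
  rcases f.mem.1 hv with e | rfl | rfl | rfl
  exacts [absurd e v1, z.2, this, (mul_mem_cancel_left q).1 this]

theorem oc_le (hd : d ∈ D) (i : Iv y) (z : y ∈ Zt d (Kf d)) (ne : y ≠ d) (ia : Iv a) (c : a ∈ 𝐂 (V4 d y))
    (k : ∀ v ∈ V4 d y, v ∈ D → V4 d y ≤ Cz (Kf v) → sc (ρf v a) ≤ 4) : Oc 2 a ≤ wz d (Kf d) := by
  have f := fpz (iv h hd) i z ne
  have n : V4 d y ≤ 𝐍 (Oc 2 a) := (le_cent1_iff.2 c).trans (O_normal _ _).norm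
  have q : ∀ u ∈ V4 d y, u ≠ 1 → Oc 2 a ⊓ 𝐂₁ u ≤ wz d (Kf d) := fun u hu u1 =>
    let ⟨uD, zu, l⟩ := vz h hd i z ne hu u1
    (balA h uD ia (mem_cent1.2 (c u hu).symm) (k u hu uD l)).trans (le_wz (iv h uD) zu)
  exact f.le_of_cent (n (left_mem_V4 _ _)) (n (right_mem_V4 _ _)) (odd_O _) (q _ (left_mem_V4 _ _) f.l.ne_one)
    (q _ (right_mem_V4 _ _) f.r.ne_one) (q _ (mul_mem (left_mem_V4 _ _) (right_mem_V4 _ _)) f.iv.ne_one)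

theorem exU (hd : d ∈ D) (he : e ∈ Kf d) (i : Iv e) (ty : sc (ρf d e) = 4) (z : r ∈ Cz (Kf d)) (ir : Iv r)
    (c : r ∈ 𝐂₁ e) : ∃ u ∈ Kf d, u ∈ 𝐂₁ r ∧ Iv u ∧ u ∈ Zt e (Kf e) ∧ u ≠ e := by
  have v := vw h hd
  have eN := v.nK he
  have rN := Cz_norm _ z
  obtain ⟨p, q, p', q', n4, ee⟩ := StA.DT.ex' (show DT (ρf d e) from ⟨v.sq eN i.sq, ty⟩)
  obtain ⟨u, hu, c1, c2, iu, eu⟩ := lift5 v eN rN i.sq ir.sq (mem_cent1.1 c).symm n4.s2.dT (ee ▸ n4.comm.symm)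
    (by rw [v.cz z]; exact .one_right _)
  refine ⟨u, hu, c2, iu, ⟨c1, (h.t2 hd he i ty).2.2.2 u hu c1 fun x hx => ?_⟩, fun q => ?_⟩
  · rw [ee, n4.fix_iff] at hx; rw [eu, n4.s2.fix_iff]; exact ⟨hx.1, hx.2.2.1, hx.2.1, hx.2.2.2⟩
  · exact n4.ne (by rw [← ee, ← eu, q])

theorem w0 (hd : d ∈ D) (he : e ∈ D) (z : e ∈ Zt d (Kf d)) : wz e (Kf e) = wz d (Kf d) := by
  by_cases ne : e = d
  · rw [ne]
  rw [wz_th h hd (iv h he) z ne, wz_th h he (iv h hd) ⟨mem_cent1_comm.1 z.1, (h.zD hd z (iv h he)).2⟩ (Ne.symm ne),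
    V4, sup_comm]

theorem w2 (hd : d ∈ D) (he : e ∈ Kf d) (i : Iv e) (ty : sc (ρf d e) = 4) : wz e (Kf e) = wz d (Kf d) := by
  obtain ⟨eD, dK, ty', -⟩ := h.t2 hd he i ty
  have ce := (pc h hd).le he
  obtain ⟨u, -, cu, iu, zu, nu⟩ := exU h hd he i ty (h.mp hd).tz.2 (iv h hd) (mem_cent1_comm.1 ce)
  obtain ⟨y, hy, cy, iy, zy, ny⟩ := exU h eD dK (iv h hd) ty' zu.2 iu cu
  have c : V4 e u ≤ 𝐂 (V4 d y) := by
    rw [cent_V4]; exact V4_le.2 ⟨⟨ce, mem_cent1_comm.1 ((pc h eD).le hy)⟩, cu, mem_cent1_comm.1 cy⟩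
  have k : ∀ {d y e u}, d ∈ D → Iv y → y ∈ Zt d (Kf d) → y ≠ d → e ∈ D → Iv u → u ∈ Zt e (Kf e) → u ≠ e →
      V4 e u ≤ 𝐂 (V4 d y) → wz e (Kf e) ≤ wz d (Kf d) := fun hd iy zy ny eD iu zu nu c => by
    rw [wz_th h eD iu zu nu]
    refine AF.th_le fun w hw w1 => ?_
    have wD := (vz h eD iu zu nu hw w1).1
    exact oc_le h hd iy zy ny (iv h wD) (c hw) fun v hv vD _ => sc4 h vD wD (mem_cent1.2 (c hw v hv).symm)
  exact (k hd iy zy ny eD iu zu nu c).antisymm (k eD iu zu nu hd iy zy ny (cent_symm c))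

theorem common (hd : d ∈ D) (he : e ∈ D) (c : e ∈ 𝐂₁ d) :
    ∃ (m : ℕ) (I : Subgroup X) (ν : X → Perm (Fin m)) (j : Fin m ↪ Fin n), Fx n (Kf d) (ρf d) e m I ν j ∧ I ≤ Kf e := by
  have k := sc4 h hd he c
  obtain ⟨i, -, hi⟩ := AF.ct_sq ((vw h hd).sq (nrm h hd c) (iv h he).sq)
  obtain ⟨o, ho⟩ := h.odd
  have := h.n9
  obtain ⟨I, ν, j, F, pI⟩ := (vw h hd).fx (m := n - sc (ρf d e)) (pc h hd) (iv h he) c (nrm h hd c) (by omega) (by omega)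
    (by omega)
  have c' := mem_cent1_comm.1 c
  rcases (vw h he).tri h.odd (pc h he) (iv h hd) c' (nrm h he c') (inf_comm (𝐂₁ d) _ ▸ pI) with q | ⟨_, _, _, F'⟩
  · exact absurd (le_inf F.cI q) (nz h he pI)
  · exact ⟨_, I, ν, j, F, F'.le⟩

theorem lnk (hd : d ∈ D) (i : Iv r) (z : r ∈ Zt d (Kf d)) : Dn (Kf d) r ≤ Kf r ∧ Kf r ≤ 𝒪 (Kf r) ⊔ Dn (Kf d) r ∧
    ∀ s ∈ Kf d, s ∈ 𝐂₁ r → E2 s → s ∈ Kf r ∧ sc (ρf r s) = sc (ρf d s) := by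
  obtain ⟨L, μ, k, l1, l2, -, l3, l4⟩ := h.toCa.link (h.mp hd) i z
  have rD := (h.zD hd z i).1
  obtain rfl := h.uq rD k
  refine ⟨l1, l2, fun s hs c e => ⟨l3 s hs c e, ?_⟩⟩
  obtain ⟨σ, q⟩ := k.vw.uniq (vw h rD) (by have := h.n9; omega)
  obtain ⟨nr, e'⟩ := l4 s ((vw h hd).nK hs) ((pc h hd).le hs) c
  rw [q s nr, AF.sc_conj, e']

theorem bal8 (hd : d ∈ D) (hs : s ∈ Kf d) (i : Iv s) (ty : sc (ρf d s) = 4) (c : d ∈ 𝐂₁ a)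
    (k : Oc 2 a ⊓ 𝐂₁ d ≤ Oc 2 d) : Oc 2 a ⊓ 𝐂₁ (d * s) ≤ Oc 2 (d * s) := by
  obtain ⟨-, B, hB, sB, p, ab, -, nB, -⟩ := h.gl hd hs i ty
  have nd : d ∈ 𝐍 (Oc 2 a ⊓ 𝐂₁ (d * s)) := norm_inf (zpowers_le.2 ((O_normal _ _).norm c))
    (zpowers_le.2 (le_norm_self _ ((le_sup_left.trans nB.le) hB))) (mem_zpowers d)
  refine (comm_sup_cent_zp (iv h hd) nd (od_iff.2 (O_pi _ _).inf_left)).ge.trans (sup_le
    (AF.comm_odd p nB (O_pi _ _).inf_left inf_le_right (zpowers_le.2 hB) (zpowers_le.2 nd)) ?_)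
  exact (le_inf ((inf_le_inf_right _ inf_le_left).trans k) (inf_le_left.trans inf_le_right)).trans
    (AF.bal_norm p ab nB hB)

end Sc

open Sc

theorem SD.w_eq (h : SD β n D Kf ρf) (hd : d ∈ D) (he : e ∈ D) (c : e ∈ 𝐂₁ d) : wz e (Kf e) = wz d (Kf d) := by
  have k : ∀ {d e}, d ∈ D → e ∈ D → e ∈ 𝐂₁ d → sc (ρf d e) ≠ 2 → wz e (Kf e) = wz d (Kf d) := fun hd he c n2 => by
    rcases h.cls hd he c with q | q | q
    exacts [w0 h hd he ⟨c, q⟩, w2 h hd q.1 (iv h he) q.2, absurd q n2]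
  obtain ⟨m, I, ν, j, F, l⟩ := common h hd he c
  obtain ⟨a, ha, i, ty⟩ := ex2 F.vI
  rw [← F.sc_eq ha] at ty
  rw [← w2 h hd (F.le ha) i ty]
  refine (k he (h.t2 hd (F.le ha) i ty).1 (F.cI ha) fun q => ?_).symm
  have := AF.four_dvd ((vw h he).sq ((vw h he).nK (l ha)) i.sq) (mem_alternatingGroup.2 ((vw h he).sgn (l ha)))
  omega

theorem SD.w_odd (h : SD β n D Kf ρf) (hd : d ∈ D) : Od (wz d (Kf d)) := by
  obtain ⟨s, hs, i, ty⟩ := ex2 (vw h hd)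
  obtain ⟨sD, dK, ty', -⟩ := h.t2 hd hs i ty
  have cs := (pc h hd).le hs
  obtain ⟨y, hy, cy, iy, zy, ny⟩ := exU h sD dK (iv h hd) ty' (h.mp sD).tz.2 i cs
  have f := fpz (iv h hd) iy zy ny
  have sC : s ∈ 𝐂 (V4 d y) := by rw [cent_V4]; exact ⟨cs, mem_cent1_comm.1 cy⟩
  have sU : s ∉ V4 d y := fun q => by
    rw [(vw h hd).cz ((h.zS hd iy zy ny).1.le q).2, AF.sc_zero.2 rfl] at ty; omega
  have nw : zpowers s ≤ 𝐍 (V4 d y) := zpowers_le.2 (cent_le_norm _ sC)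
  have ab : Abel (V4 d y ⊔ zpowers s) := f.abel.sup (abel_zpowers s) (cent_symm (zpowers_le.2 sC))
  have el : ∀ a ∈ V4 d y ⊔ zpowers s, a ∈ V4 d y ∨ ∃ u ∈ V4 d y, a = u * s := fun a ha => by
    obtain ⟨u, hu, z, hz, rfl⟩ := (mem_sup_norm' nw).1 ha
    rcases i.mem_zpowers.1 hz with rfl | rfl
    exacts [.inl (by rwa [mul_one]), .inr ⟨u, hu, rfl⟩]
  have sq : ∀ a ∈ V4 d y ⊔ zpowers s, a * a = 1 := fun a ha => by
    obtain q | ⟨u, hu, rfl⟩ := el a ha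
    exacts [f.sq q, AF.mul_sq (f.sq hu) i.sq (sC u hu)]
  have b1 : ∀ a ∈ V4 d y ⊔ zpowers s, a ≠ 1 → ∀ b ∈ V4 d y, b ≠ 1 → Oc 2 a ⊓ 𝐂₁ b ≤ Oc 2 b := fun a ha a1 b q b1 => by
    obtain ⟨bD, -, l⟩ := vz h hd iy zy ny q b1
    refine balA h bD (.mk' a1 (sq a ha)) (mem_cent1.2 (ab.mul_comm ha (mem_sup_left q))) ?_
    obtain q' | ⟨u, hu, rfl⟩ := el a ha
    · rw [(vw h bD).cz (l q'), AF.sc_zero.2 rfl]; omega
    · exact scz h bD sD (mem_cent1.2 (sC b q).symm) (l hu)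
  obtain ⟨Γ, o, l⟩ := AF.signal (A := V4 d y ⊔ zpowers s) (.mk' p2 ab fun a ha => by rw [pow_two, sq a ha]) (by
      rw [card_sup_of_inf_bot (.inr nw) (eq_bot_of_forall fun x hx => (i.mem_zpowers.1 hx.2).resolve_right
        fun e => sU (e ▸ hx.1)), f.card, i.card]
      exact (logn_pow p2 3).ge) fun a ha a1 b hb b1' => by
    obtain q | ⟨u, hu, rfl⟩ := el b hb
    · exact b1 a ha a1 b q b1'
    by_cases u1 : u = 1
    · rw [u1, one_mul]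
      refine balA h sD (.mk' a1 (sq a ha)) (mem_cent1.2 (ab.mul_comm ha (mem_sup_right (mem_zpowers s)))) ?_
      have k : ∀ w ∈ V4 d y, sc (ρf s (s * w)) ≤ 4 := fun w hw => by
        by_cases w1 : w = 1
        · rw [w1, mul_one, (vw h sD).cz (h.mp sD).tz.2, AF.sc_zero.2 rfl]; omega
        exact scz h sD (vz h hd iy zy ny hw w1).1 (mem_cent1.2 (sC w hw)) (h.mp sD).tz.2
      obtain q' | ⟨w, hw, rfl⟩ := el a ha
      · exact sc4 h sD (vz h hd iy zy ny q' a1).1 (mem_cent1.2 (sC a q'))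
      · exact sC w hw ▸ k w hw
    obtain ⟨uD, zu, -⟩ := vz h hd iy zy ny hu u1
    obtain ⟨sK, e⟩ := (lnk h hd (iv h uD) zu).2.2 s hs (mem_cent1.2 (sC u hu).symm) i.piElt
    exact bal8 h uD sK i (e.trans ty) (mem_cent1.2 (ab.mul_comm (mem_sup_left hu) ha)) (b1 a ha a1 u hu u1)
  rw [wz_th h hd iy zy ny]
  exact o.le (AF.th_le fun u hu n => l u (mem_sup_left hu) n)

theorem SD.w_mul (h : SD β n D Kf ρf) (hd : d ∈ D) (he : e ∈ D) (c : e ∈ 𝐂₁ d) (ne : d ≠ e) (hx : x ∈ D)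
    (cx : x ∈ 𝐂₁ (d * e)) : wz x (Kf x) = wz d (Kf d) := by
  have f : FP d e := ⟨iv h hd, iv h he, (mem_cent1.1 c).symm, ne⟩
  have cb := mul_mem (self_mem_cent1 d) c
  by_cases bD : d * e ∈ D
  · rw [h.w_eq bD hx cx, h.w_eq hd bD cb]
  obtain ⟨eK, ty⟩ : e ∈ Kf d ∧ sc (ρf d e) = 4 := by
    rcases h.cls hd he c with q | q | q
    · exact absurd (h.zD hd ⟨cb, mul_mem (h.mp hd).tz.2 q⟩ f.iv).1 bD
    · exact q
    · refine absurd (h.t1 hd cb f.iv ?_) bD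
      rwa [(vw h hd).mul (nrm h hd (self_mem_cent1 d)) (nrm h hd c), (vw h hd).cz (h.mp hd).tz.2, one_mul]
  obtain ⟨-, B, hB, eB, p, ab, c8, nB, mB⟩ := h.gl hd eK f.r ty
  have wB : ∀ x ∈ B, x ∈ D → wz x (Kf x) = wz d (Kf d) := fun x hx xD => h.w_eq hd xD (mem_cent1.2 (ab.mul_comm hx hB))
  have nO := (le_sup_left.trans nB.le).trans (O_normal {2}ᶜ _).norm
  have sB : Syl 2 B (B ⊔ Oc 2 (d * e)) := sup_comm (Oc 2 (d * e)) _ ▸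
    ((SDProd.mk' nO ((O_pi _ _).inf_eq_bot' p)).hall_right (O_pi _ _) p)
  have q0 : 𝐍 B ≤ 𝐍 (wz d (Kf d)) := fun g hg => by
    rw [← cj_eq_self, cj_w h hd, wB _ (conj_mem_of_norm hg hB) (h.cl hd g)]
  obtain ⟨u, uK, cu, iu, zu, nu⟩ := exU h hd eK f.r ty (h.mp hd).tz.2 f.l (mem_cent1_comm.1 c)
  have cV : V4 e u ≤ 𝐂₁ d := V4_le.2 ⟨c, cu⟩
  have q1 : 𝐂₁ (d * e) ≤ 𝐍 (wz d (Kf d)) := by
    refine (sB.syl_frattini_sup nB).ge.trans (sup_le (sup_le ((le_norm_self _).trans q0) (norm_of_le ?_))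
      (inf_le_right.trans q0))
    rw [← wB e eB he]
    refine oc_le h he iu zu nu f.iv (mul_mem (le_cent1_iff.1 cV) ((fpz f.r iu zu nu).abel (left_mem_V4 _ _)))
      fun v hv vD l => ?_
    rw [f.comm]; exact scz h vD hd (mem_cent1_comm.1 (cV hv)) (l (left_mem_V4 _ _))
  obtain ⟨P, hP, l⟩ := exists_syl_le (le_sup_left.trans nB.le) p
  obtain ⟨g, hg, q⟩ := hP.syl_cj_le (zpowers_le.2 cx) (iv h hx).piGrp
  have e1 := sB.eq_of_le (le_inf l le_sup_left) inf_le_right hP.pi.inf_left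
  have nP : P ≤ 𝐍 B := e1 ▸ norm_inf (le_norm_self P) (hP.le.trans nB.norm)
  obtain ⟨w, hw, w1, w2, cw⟩ := fix8 f hB ab (fun x hx => by
    rcases mB x hx with rfl | rfl | q
    exacts [mul_one 1, f.iv.sq, (iv h q).sq]) c8 ((iv h hx).conj g).sq (nP (q (conj_mem_cj.2 (mem_zpowers x))))
  have wD := ((mB w hw).resolve_left w1).resolve_left w2
  have := (h.w_eq wD (h.cl hx g) cw).trans (wB w hw wD)
  rwa [← cj_w h hx, cj_eq_iff, cj_of_norm (q1 (inv_mem hg))] at this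

end CF.Ua
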